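import Groth.Agent.ModPairBasic.Image

/-!
# Effective Cartier ideals and open immersions, residual locus, clopen decompositions
-/

universe u

open CategoryTheory CategoryTheory.Limits AlgebraicGeometry TopologicalSpace
open scoped nonZeroDivisors

set_option linter.unusedSectionVars false

namespace Groth.Agent.ModPairBasic

variable {X Y Z : Scheme.{u}}

lemma ec_chart_of_isOpenImmersion (J : Y.IdealSheafData) (j : X ⟶ Y) [IsOpenImmersion j]
    (h : BlowUp.IsEffCartierIdeal (J.comap j)) (x : X) :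
    ∃ U : Y.affineOpens, j x ∈ U.1 ∧ ∃ g : Γ(Y, U.1), g ∈ Γ(Y, U.1)⁰ ∧ J.ideal U = Ideal.span {g} := by
  obtain ⟨U, hxU, g, hg, hU⟩ := h x
  refine ⟨⟨j ''ᵁ U.1, U.2.image_of_isOpenImmersion j⟩, ⟨x, hxU, rfl⟩, (j.appIso U.1).inv g, ?_, ?_⟩
  · have e := (j.appIso U.1).symm.commRingCatIsoToRingEquiv
    exact (MulEquivClass.map_nonZeroDivisors (j.appIso U.1).symm.commRingCatIsoToRingEquiv).le
      ⟨g, hg, rfl⟩
  · rw [Scheme.IdealSheafData.ideal_comap_of_isOpenImmersion] at hU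
    have hb := ConcreteCategory.bijective_of_isIso (j.appIso U.1).inv
    have := congrArg (Ideal.map (j.appIso U.1).inv.hom) hU
    rwa [Ideal.map_comap_of_surjective _ hb.2, Ideal.map_span, Set.image_singleton] at this

lemma ec_of_openCover (J : Y.IdealSheafData)
    (h : ∀ y : Y, ∃ (X : Scheme.{u}) (j : X ⟶ Y) (_ : IsOpenImmersion j), y ∈ Set.range j ∧
      BlowUp.IsEffCartierIdeal (J.comap j)) : BlowUp.IsEffCartierIdeal J := by
  intro y
  obtain ⟨X, j, hj, ⟨x, rfl⟩, hec⟩ := h y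
  exact ec_chart_of_isOpenImmersion J j hec x

/-- The locus where two divisors `J ≤ L` agree. -/
theorem exists_agree_open {J L : Y.IdealSheafData} (hJ : BlowUp.IsEffCartierIdeal J)
    (hL : BlowUp.IsEffCartierIdeal L) (hle : J ≤ L) (f : X ⟶ Y) (hf : J.comap f = L.comap f)
    (hJf : BlowUp.IsEffCartierIdeal (J.comap f)) :
    ∃ U : Y.Opens, QuasiCompact U.ι ∧ Set.range f ⊆ (U : Set Y) ∧ J.comap U.ι = L.comap U.ι := by
  -- local description
  have key : ∀ y : Y, ∃ (V : Y.affineOpens) (a b c : Γ(Y, V.1)), y ∈ V.1 ∧ a ∈ Γ(Y, V.1)⁰ ∧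
      b ∈ Γ(Y, V.1)⁰ ∧ J.ideal V = Ideal.span {a} ∧ L.ideal V = Ideal.span {b} ∧ a = b * c := by
    intro y
    obtain ⟨V, hyV, a, ha, hJV⟩ := hJ y
    obtain ⟨W, hyW, b, hb, hLW⟩ := hL y
    obtain ⟨r, r', e, hyr⟩ := exists_basicOpen_le_affine_inter V.2 W.2 y ⟨hyV, hyW⟩
    have h1 := ideal_of_le (V := Y.affineBasicOpen r) (Y.basicOpen_le r) hJV
    have h2 := ideal_of_le (V := Y.affineBasicOpen r) (e.trans_le (Y.basicOpen_le r')) hLW
    have h3 := hle (Y.affineBasicOpen r)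
    rw [h1, h2, Ideal.span_singleton_le_span_singleton] at h3
    obtain ⟨c, hc⟩ := h3
    refine ⟨Y.affineBasicOpen r, _, _, c, hyr, nzd_basicOpen ha r, ?_, h1, h2, hc⟩
    have h4 := nzd_basicOpen ha r
    erw [hc] at h4
    exact (mul_mem_nonZeroDivisors.mp h4).1
  let G : Set Y.affineOpens := {V | J.ideal V = L.ideal V}
  let U : Y.Opens := ⨆ V : G, V.1.1
  have hU : ∀ (V : Y.affineOpens) (a b c : Γ(Y, V.1)), b ∈ Γ(Y, V.1)⁰ → J.ideal V = Ideal.span {a} →
      L.ideal V = Ideal.span {b} → a = b * c → U ⊓ V.1 = Y.basicOpen c := by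
    intro V a b c hb hJV hLV habc
    ext y
    constructor
    · rintro ⟨hyU, hyV⟩
      obtain ⟨⟨W, hW⟩, hyW⟩ := Opens.mem_iSup.mp hyU
      obtain ⟨r, r', e, hyr⟩ := exists_basicOpen_le_affine_inter V.2 W.2 y ⟨hyV, hyW⟩
      have hle' : Y.basicOpen r ≤ W.1 := e.trans_le (Y.basicOpen_le r')
      have h1 : J.ideal (Y.affineBasicOpen r) = L.ideal (Y.affineBasicOpen r) := by
        rw [← J.map_ideal (show Y.affineBasicOpen r ≤ W from hle'),
          ← L.map_ideal (show Y.affineBasicOpen r ≤ W from hle'), hW]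
      rw [ideal_of_le (V := Y.affineBasicOpen r) (Y.basicOpen_le r) hJV,
        ideal_of_le (V := Y.affineBasicOpen r) (Y.basicOpen_le r) hLV] at h1
      obtain ⟨d, hd⟩ : ∃ d : Γ(Y, Y.basicOpen r), (Y.presheaf.map (homOfLE (Y.basicOpen_le r)).op).hom b =
          (Y.presheaf.map (homOfLE (Y.basicOpen_le r)).op).hom a * d :=
        Ideal.span_singleton_le_span_singleton.mp h1.ge
      have hbr := nzd_basicOpen hb r
      have hu : IsUnit ((Y.presheaf.map (homOfLE (Y.basicOpen_le r)).op).hom c) := by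
        refine IsUnit.of_mul_eq_one d ?_
        refine ((mul_cancel_left_mem_nonZeroDivisors hbr).mp ?_)
        rw [mul_one, ← mul_assoc, ← map_mul, ← habc]
        exact hd.symm
      have hb' := (Y.toRingedSpace.mem_basicOpen _ y hyr).mpr (hu.map (Y.presheaf.germ _ y hyr).hom)
      have := Scheme.basicOpen_res Y c (homOfLE (Y.basicOpen_le r)).op
      exact (this.le hb').2
    · intro hy
      refine ⟨Opens.mem_iSup.mpr ⟨⟨Y.affineBasicOpen c, ?_⟩, hy⟩, Y.basicOpen_le c hy⟩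
      show J.ideal _ = L.ideal _
      rw [ideal_of_le (V := Y.affineBasicOpen c) (Y.basicOpen_le c) hJV,
        ideal_of_le (V := Y.affineBasicOpen c) (Y.basicOpen_le c) hLV, habc, map_mul]
      have := V.2.isLocalization_basicOpen c
      refine Ideal.span_singleton_mul_right_unit ?_ _
      exact IsLocalization.map_units Γ(Y, Y.basicOpen c) (⟨c, Submonoid.mem_powers c⟩ : Submonoid.powers c)
  refine ⟨U, ?_, ?_, ?_⟩
  · have : IsAffineHom U.ι := isAffineHom_of_forall_exists_isAffineOpen _ fun y => by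
      obtain ⟨V, a, b, c, hyV, -, hb, hJV, hLV, habc⟩ := key y
      refine ⟨V.1, hyV, V.2, ?_⟩
      rw [← Scheme.Hom.isAffineOpen_iff_of_isOpenImmersion U.ι,
        Scheme.Hom.image_preimage_eq_opensRange_inf, Scheme.Opens.opensRange_ι, hU V a b c hb hJV hLV habc]
      exact V.2.basicOpen _
    infer_instance
  · rintro _ ⟨x, rfl⟩
    obtain ⟨V, a, b, c, hyV, -, hb, hJV, hLV, habc⟩ := key (f x)
    suffices f x ∈ Y.basicOpen c from ((hU V a b c hb hJV hLV habc).ge this).1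
    obtain ⟨T, hxT, g, hg, hJT⟩ := hJf x
    obtain ⟨_, ⟨W, hW, rfl⟩, hxW, hWT⟩ := X.isBasis_affineOpens.exists_subset_of_mem_open
      (show x ∈ T.1 ⊓ f ⁻¹ᵁ V.1 from ⟨hxT, hyV⟩) (T.1 ⊓ f ⁻¹ᵁ V.1).isOpen
    have hWV : W ≤ f ⁻¹ᵁ V.1 := fun w hw => (hWT hw).2
    obtain ⟨r, r', e, hxr⟩ := exists_basicOpen_le_affine_inter T.2 hW x ⟨hxT, hxW⟩
    have hrV : X.basicOpen r ≤ f ⁻¹ᵁ V.1 := (e.trans_le (X.basicOpen_le r')).trans hWV
    have h1 := IdealComap.ideal_comap J f (X.affineBasicOpen r) V hrV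
    have h2 := IdealComap.ideal_comap L f (X.affineBasicOpen r) V hrV
    rw [hJV, Ideal.map_span, Set.image_singleton] at h1
    rw [hLV, Ideal.map_span, Set.image_singleton, ← hf, h1] at h2
    obtain ⟨d, hd⟩ : ∃ d : Γ(X, X.basicOpen r), f.appLE V.1 (X.basicOpen r) hrV b =
        f.appLE V.1 (X.basicOpen r) hrV a * d := Ideal.span_singleton_le_span_singleton.mp h2.ge
    have hgr := nzd_basicOpen hg r
    have h3 := ideal_of_le (V := X.affineBasicOpen r) (X.basicOpen_le r) hJT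
    rw [h1] at h3
    obtain ⟨d', hd'⟩ := Ideal.span_singleton_le_span_singleton.mp h3.ge
    have ha' : f.appLE V.1 _ hrV a ∈ Γ(X, X.basicOpen r)⁰ := by
      erw [hd'] at hgr
      exact (mul_mem_nonZeroDivisors.mp hgr).1
    have hu : IsUnit (f.appLE V.1 (X.basicOpen r) hrV c) := by
      refine IsUnit.of_mul_eq_one d ?_
      refine ((mul_cancel_left_mem_nonZeroDivisors ha').mp ?_)
      calc f.appLE V.1 _ hrV a * (f.appLE V.1 _ hrV c * d)
          = (f.appLE V.1 _ hrV a * d) * f.appLE V.1 _ hrV c := by ring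
        _ = f.appLE V.1 _ hrV b * f.appLE V.1 _ hrV c := by rw [← hd]
        _ = f.appLE V.1 _ hrV a * 1 := by rw [mul_one, ← map_mul, ← habc]
    rw [← Scheme.basicOpen_of_isUnit X hu, Scheme.basicOpen_appLE] at hxr
    exact hxr.2
  · refine Scheme.IdealSheafData.ext_of_iSup_eq_top
      (fun V : G => ⟨U.ι ⁻¹ᵁ V.1.1, ?_⟩) ?_ fun V => ?_
    · show IsAffineOpen _
      rw [← Scheme.Hom.isAffineOpen_iff_of_isOpenImmersion U.ι,
        Scheme.Hom.image_preimage_eq_opensRange_inf, Scheme.Opens.opensRange_ι,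
        inf_eq_right.mpr (le_iSup (fun V : G => V.1.1) V)]
      exact V.1.2
    · refine eq_top_iff.mpr fun u _ => ?_
      obtain ⟨V, hV⟩ := Opens.mem_iSup.mp u.2
      exact Opens.mem_iSup.mpr ⟨V, hV⟩
    · rw [IdealComap.ideal_comap J U.ι _ V.1 le_rfl, IdealComap.ideal_comap L U.ι _ V.1 le_rfl, V.2]

lemma isClosedImmersion_homOfLE {U O : X.Opens} (h : U ≤ O)
    (hc : IsClosed ((O.ι ⁻¹ᵁ U : (O : Scheme.{u}).Opens) : Set O)) : IsClosedImmersion (X.homOfLE h) := by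
  refine IsClosedImmersion.of_isPreimmersion _ ?_
  convert hc using 1
  ext o
  constructor
  · rintro ⟨u, rfl⟩
    show O.ι (X.homOfLE h u) ∈ U
    rw [← Scheme.Hom.comp_apply, Scheme.homOfLE_ι]
    exact u.2
  · intro ho
    exact ⟨⟨o.1, ho⟩, by rw [Scheme.homOfLE_apply' h o.1 ho]; rfl⟩

theorem admBlowup_of_clopen {I : X.IdealSheafData} (hI : BlowUp.IsEffCartierIdeal I) {U₀ U₁ : X.Opens}
    (hU : U₀ ⊔ U₁ = ModPair.interior I) (hd : Disjoint U₀ U₁) :
    BlowUp.IsEffCartierIdeal (I.comap (coprod.desc U₀.ι.imageι U₁.ι.imageι)) ∧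
      ModPair.IsAdmBlowup (I.comap (coprod.desc U₀.ι.imageι U₁.ι.imageι)) I
        (coprod.desc U₀.ι.imageι U₁.ι.imageι) := by
  have hIl := isLocPrincipal_of_ec hI
  have := quasiCompact_interior_ι hIl
  have main : ∀ A B : X.Opens, A ⊔ B = ModPair.interior I → Disjoint A B →
      QuasiCompact A.ι ∧ BlowUp.IsEffCartierIdeal (I.comap A.ι.imageι) ∧
        (∀ z, A.ι.imageι z ∈ ModPair.interior I → A.ι.imageι z ∈ A) ∧ IsIso (A.ι.imageι ∣_ A) := by
    intro A B hAB hAd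
    have hA : A ≤ ModPair.interior I := hAB ▸ le_sup_left
    have hc : IsClosed (((ModPair.interior I).ι ⁻¹ᵁ A : (ModPair.interior I : Scheme.{u}).Opens) :
        Set (ModPair.interior I)) := by
      rw [show (((ModPair.interior I).ι ⁻¹ᵁ A : (ModPair.interior I : Scheme.{u}).Opens) :
          Set (ModPair.interior I)) = (((ModPair.interior I).ι ⁻¹ᵁ B : (ModPair.interior I : Scheme.{u}).Opens) :
          Set (ModPair.interior I))ᶜ from ?_]
      · exact ((ModPair.interior I).ι ⁻¹ᵁ B).isOpen.isClosed_compl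
      ext o
      constructor
      · intro ha hb
        exact (hAd.le_bot ⟨ha, hb⟩ : o.1 ∈ (⊥ : X.Opens))
      · intro hb
        rcases (hAB.ge o.2 : o.1 ∈ A ⊔ B) with h | h
        · exact h
        · exact absurd h hb
    have hcl := isClosedImmersion_homOfLE hA hc
    have hq : QuasiCompact A.ι := by rw [← X.homOfLE_ι hA]; infer_instance
    obtain ⟨u, hu, hu1, hu2, hu3⟩ := image_open A.ι (ModPair.interior I) (X.homOfLE hA) (X.homOfLE_ι hA)
    refine ⟨hq, ?_, fun z hz => ?_, isIso_imageι_restrict A⟩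
    · rw [preimage_interior] at hu3
      exact ec_of_dense (isLocPrincipal_comap hIl _)
    · obtain ⟨a, ha⟩ := u.homeomorph.surjective ⟨z, hz⟩
      have : A.ι.toImage a = z := by
        rw [← hu1, Scheme.Hom.comp_apply]
        exact congrArg Subtype.val ha
      rw [← this, ← Scheme.Hom.comp_apply, Scheme.Hom.toImage_imageι]
      exact a.2
  obtain ⟨q₀, e₀, m₀, i₀⟩ := main U₀ U₁ hU hd
  obtain ⟨q₁, e₁, m₁, i₁⟩ := main U₁ U₀ (by rw [sup_comm, hU]) hd.symm
  set p := coprod.desc U₀.ι.imageι U₁.ι.imageι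
  have hcov : ∀ z : (U₀.ι.image ⨿ U₁.ι.image : Scheme.{u}), (∃ a, (coprod.inl : U₀.ι.image ⟶ _) a = z) ∨
      ∃ a, (coprod.inr : U₁.ι.image ⟶ _) a = z := by
    intro z
    rcases (isCompl_range_inl_inr U₀.ι.image U₁.ι.image).codisjoint.eq_top.ge (Set.mem_univ z) with h | h
    · exact Or.inl h
    · exact Or.inr h
  refine ⟨ec_of_openCover _ fun z => ?_, rfl, inferInstance, ?_⟩
  · rcases hcov z with h | h
    · exact ⟨_, coprod.inl, inferInstance, h, by rw [← Scheme.IdealSheafData.comap_comp, coprod.inl_desc]; exact e₀⟩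
    · exact ⟨_, coprod.inr, inferInstance, h, by rw [← Scheme.IdealSheafData.comap_comp, coprod.inr_desc]; exact e₁⟩
  · have h0 : IsIso (p ∣_ U₀) := by
      have hc : IsIso ((coprod.inl ≫ p) ∣_ U₀) := by rw [coprod.inl_desc]; exact i₀
      rw [morphismRestrict_comp] at hc
      have : Surjective ((coprod.inl : U₀.ι.image ⟶ U₀.ι.image ⨿ U₁.ι.image) ∣_ (p ⁻¹ᵁ U₀)) := by
        refine ⟨fun z => ?_⟩
        rcases hcov z.1 with ⟨a, ha⟩ | ⟨a, ha⟩
        · exact ⟨⟨a, show (coprod.inl : U₀.ι.image ⟶ U₀.ι.image ⨿ U₁.ι.image) a ∈ p ⁻¹ᵁ U₀ from ha ▸ z.2⟩, Subtype.ext ((morphismRestrict_base_coe _ _ _).trans ha)⟩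
        · exfalso
          have hz : U₁.ι.imageι a ∈ U₀ := by
            have hz2 : p z.1 ∈ U₀ := z.2
            rwa [← ha, ← Scheme.Hom.comp_apply, coprod.inr_desc] at hz2
          exact (hd.le_bot ⟨hz, m₁ a (hU ▸ Or.inl hz)⟩ : U₁.ι.imageι a ∈ (⊥ : X.Opens))
      have : IsIso ((coprod.inl : U₀.ι.image ⟶ U₀.ι.image ⨿ U₁.ι.image) ∣_ (p ⁻¹ᵁ U₀)) :=
        (isIso_iff_isOpenImmersion_and_surjective _).mpr ⟨inferInstance, this⟩
      exact @IsIso.of_isIso_comp_left _ _ _ _ _ _ _ this hc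
    have h1 : IsIso (p ∣_ U₁) := by
      have hc : IsIso ((coprod.inr ≫ p) ∣_ U₁) := by rw [coprod.inr_desc]; exact i₁
      rw [morphismRestrict_comp] at hc
      have : Surjective ((coprod.inr : U₁.ι.image ⟶ U₀.ι.image ⨿ U₁.ι.image) ∣_ (p ⁻¹ᵁ U₁)) := by
        refine ⟨fun z => ?_⟩
        rcases hcov z.1 with ⟨a, ha⟩ | ⟨a, ha⟩
        · exfalso
          have hz : U₀.ι.imageι a ∈ U₁ := by
            have hz2 : p z.1 ∈ U₁ := z.2
            rwa [← ha, ← Scheme.Hom.comp_apply, coprod.inl_desc] at hz2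
          exact (hd.le_bot ⟨m₀ a (hU ▸ Or.inr hz), hz⟩ : U₀.ι.imageι a ∈ (⊥ : X.Opens))
        · exact ⟨⟨a, show (coprod.inr : U₁.ι.image ⟶ U₀.ι.image ⨿ U₁.ι.image) a ∈ p ⁻¹ᵁ U₁ from ha ▸ z.2⟩, Subtype.ext ((morphismRestrict_base_coe _ _ _).trans ha)⟩
      have : IsIso ((coprod.inr : U₁.ι.image ⟶ U₀.ι.image ⨿ U₁.ι.image) ∣_ (p ⁻¹ᵁ U₁)) :=
        (isIso_iff_isOpenImmersion_and_surjective _).mpr ⟨inferInstance, this⟩
      exact @IsIso.of_isIso_comp_left _ _ _ _ _ _ _ this hc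
    show MorphismProperty.isomorphisms Scheme.{u} (p ∣_ _)
    refine (IsZariskiLocalAtTarget.iff_of_iSup_eq_top (P := MorphismProperty.isomorphisms Scheme.{u})
      (fun b : Bool => (ModPair.interior I).ι ⁻¹ᵁ (if b then U₀ else U₁)) ?_).mpr fun b => ?_
    · refine eq_top_iff.mpr fun o _ => ?_
      rcases (hU.ge o.2 : o.1 ∈ U₀ ⊔ U₁) with h | h
      · exact Opens.mem_iSup.mpr ⟨true, h⟩
      · exact Opens.mem_iSup.mpr ⟨false, h⟩
    · refine ((MorphismProperty.isomorphisms Scheme.{u}).arrow_mk_iso_iff (morphismRestrictRestrict p _ _)).mpr ?_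
      rw [Scheme.Hom.image_preimage_eq_opensRange_inf, Scheme.Opens.opensRange_ι]
      cases b
      · rw [if_neg (by simp), inf_eq_right.mpr (hU ▸ le_sup_right)]; exact h1
      · rw [if_pos rfl, inf_eq_right.mpr (hU ▸ le_sup_left)]; exact h0

end Groth.Agent.ModPairBasic
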