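import Groth.Agent.ModPairBasic.Prod
import Mathlib.AlgebraicGeometry.AffineTransitionLimit

/-!
# Effective Cartier ideals: flat pull-back, generators, cofiltered limits
-/

universe u

open CategoryTheory CategoryTheory.Limits AlgebraicGeometry TopologicalSpace Opposite
open scoped nonZeroDivisors

namespace Groth.Agent.ModPairBasic

variable {X Y : Scheme.{u}}

lemma ec_comap_flat {J : Y.IdealSheafData} (hJ : BlowUp.IsEffCartierIdeal J) (f : X ⟶ Y) [Flat f] :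
    BlowUp.IsEffCartierIdeal (J.comap f) := by
  have hl := isLocPrincipal_of_ec hJ
  have := dense_of_ec hJ
  have := quasiCompact_interior_ι hl
  have hd : IsSchemeTheoreticallyDominant (f ⁻¹ᵁ ModPair.interior J).ι :=
    IsSchemeTheoreticallyDominant.of_isPullback (isPullback_morphismRestrict f _)
  rw [preimage_interior] at hd
  exact ec_of_dense (isLocPrincipal_comap hl _)

/-- Any generator of an effective Cartier ideal on an affine open is a nonzerodivisor. -/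
lemma nzd_of_ec {J : X.IdealSheafData} (hJ : BlowUp.IsEffCartierIdeal J) {U : X.affineOpens} {g : Γ(X, U.1)}
    (hg : J.ideal U = Ideal.span {g}) : g ∈ Γ(X, U.1)⁰ := by
  have := dense_of_ec hJ
  have := quasiCompact_interior_ι (isLocPrincipal_of_ec hJ)
  refine mem_nonZeroDivisors_iff_right.mpr fun s hs => ?_
  apply (ModPair.interior J).ι.app_injective U.1
  rw [map_zero, app_ι_eq_zero_iff]
  have hle : ModPair.interior J ⊓ U.1 ≤ X.basicOpen g := (interior_inter hg).le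
  have := U.2.isLocalization_basicOpen g
  have h0 : (X.presheaf.map (homOfLE (X.basicOpen_le g)).op).hom s = 0 := by
    have hu : IsUnit ((X.presheaf.map (homOfLE (X.basicOpen_le g)).op).hom g) :=
      IsLocalization.map_units Γ(X, X.basicOpen g) (⟨g, Submonoid.mem_powers g⟩ : Submonoid.powers g)
    exact hu.mul_left_eq_zero.mp (by rw [← map_mul, hs, map_zero])
  rw [show (homOfLE (inf_le_right : ModPair.interior J ⊓ U.1 ≤ U.1)).op =
      (homOfLE (X.basicOpen_le g)).op ≫ (homOfLE hle).op from rfl, Functor.map_comp, CommRingCat.hom_comp,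
    RingHom.comp_apply, h0, map_zero]

lemma ideal_comap_appTop [IsAffine X] [IsAffine Y] (J : Y.IdealSheafData) (f : X ⟶ Y) {g : Γ(Y, ⊤)}
    (hg : J.ideal ⟨⊤, isAffineOpen_top _⟩ = Ideal.span {g}) :
    (J.comap f).ideal ⟨⊤, isAffineOpen_top _⟩ = Ideal.span {f.appTop g} := by
  rw [IdealComap.ideal_comap J f ⟨⊤, isAffineOpen_top _⟩ ⟨⊤, isAffineOpen_top _⟩ le_rfl, hg, Ideal.map_span,
    Set.image_singleton]
  exact congrArg (fun m => Ideal.span {(ConcreteCategory.hom m) g}) (Scheme.Hom.appLE_eq_app f)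

variable {I : Type u} [Category.{u} I] [IsCofiltered I] (D : I ⥤ Scheme.{u}) (c : Cone D) (hc : IsLimit c)

include hc in
lemma ec_limit_affine [∀ i, IsAffine (D.obj i)] (J : ∀ i, (D.obj i).IdealSheafData)
    (hJ : ∀ i, BlowUp.IsEffCartierIdeal (J i))
    (hmin : ∀ (i j : I) (t : i ⟶ j), ModPair.IsMinimal (J i) (J j) (D.map t)) (i : I)
    (ht : ∀ j, Nonempty (j ⟶ i)) {g : Γ(D.obj i, ⊤)}
    (hg : (J i).ideal ⟨⊤, isAffineOpen_top _⟩ = Ideal.span {g}) :
    BlowUp.IsEffCartierIdeal ((J i).comap (c.π.app i)) := by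
  have : IsAffine c.pt := by
    have : ∀ {i j : I} (f : i ⟶ j), IsAffineHom (D.map f) := fun f => inferInstance
    exact Scheme.isAffine_of_isLimit c hc
  intro x
  refine ⟨⟨⊤, isAffineOpen_top c.pt⟩, trivial, (c.π.app i).appTop g, ?_,
    ideal_comap_appTop (X := c.pt) (Y := D.obj i) (J i) (c.π.app i) hg⟩
  refine mem_nonZeroDivisors_iff_right.mpr fun s hs => ?_
  obtain ⟨j, sj, rfl⟩ := exists_appTop_π_eq_of_isAffine_of_isLimit D c hc s
  obtain ⟨t⟩ := ht j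
  have hw : ∀ {a b : I} (t : a ⟶ b) (z : Γ(D.obj b, ⊤)),
      (c.π.app a).appTop ((D.map t).appTop z) = (c.π.app b).appTop z := by
    intro a b t z
    rw [← ConcreteCategory.comp_apply, ← Scheme.Hom.comp_appTop, c.w]
  rw [← hw t g, ← map_mul] at hs
  obtain ⟨k, f, hk⟩ := exists_appTop_map_eq_zero_of_isAffine_of_isLimit D c hc j _ hs
  rw [map_mul] at hk
  have hgen : (J k).ideal ⟨⊤, isAffineOpen_top _⟩ = Ideal.span {(D.map f).appTop ((D.map t).appTop g)} := by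
    rw [show J k = (J j).comap (D.map f) from hmin k j f]
    refine ideal_comap_appTop _ _ ?_
    rw [show J j = (J i).comap (D.map t) from hmin j i t]
    exact ideal_comap_appTop _ _ hg
  have h0 := mem_nonZeroDivisors_iff_right.mp (nzd_of_ec (hJ k) hgen) _ hk
  rw [← hw f sj, h0, map_zero]

include hc in
theorem ec_limit [∀ (i j : I) (t : i ⟶ j), IsAffineHom (D.map t)] (J : ∀ i, (D.obj i).IdealSheafData)
    (hJ : ∀ i, BlowUp.IsEffCartierIdeal (J i))
    (hmin : ∀ (i j : I) (t : i ⟶ j), ModPair.IsMinimal (J i) (J j) (D.map t)) (i : I) :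
    BlowUp.IsEffCartierIdeal ((J i).comap (c.π.app i)) := by
  intro x
  let p : c.pt ⟶ D.obj i := c.π.app i
  obtain ⟨U, hxU, g, -, hg⟩ := hJ i (p x)
  let D' := opensDiagram D i U.1
  have : ∀ j : Over i, IsAffine (D'.obj j) := fun j => U.2.preimage (D.map j.hom)
  let J' : ∀ j : Over i, (D'.obj j).IdealSheafData := fun j => (J j.left).comap (D.map j.hom ⁻¹ᵁ U.1).ι
  have hJ' : ∀ j, BlowUp.IsEffCartierIdeal (J' j) := fun j => by
    let a : D.obj j.left ⟶ D.obj i := D.map j.hom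
    have : Flat (D.map j.hom ⁻¹ᵁ U.1).ι := (inferInstance : Flat (a ⁻¹ᵁ U.1).ι)
    exact @ec_comap_flat _ _ _ (hJ j.left) (a ⁻¹ᵁ U.1).ι inferInstance
  have hmin' : ∀ (a b : Over i) (t : a ⟶ b), ModPair.IsMinimal (J' a) (J' b) (D'.map t) := by
    intro a b t
    have hw : (D.map t.left).resLE (D.map b.hom ⁻¹ᵁ U.1) (D.map a.hom ⁻¹ᵁ U.1)
        (by rw [← Scheme.Hom.comp_preimage, ← Functor.map_comp, Over.w t]) ≫ (D.map b.hom ⁻¹ᵁ U.1).ι =
          (D.map a.hom ⁻¹ᵁ U.1).ι ≫ D.map t.left := Scheme.Hom.resLE_comp_ι _ _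
    have h1 : J' a = ((J b.left).comap (D.map t.left)).comap (D.map a.hom ⁻¹ᵁ U.1).ι :=
      congrArg (fun K => Scheme.IdealSheafData.comap K (D.map a.hom ⁻¹ᵁ U.1).ι) (hmin _ _ t.left)
    refine h1.trans ?_
    refine (Scheme.IdealSheafData.comap_comp (J b.left) (D.map a.hom ⁻¹ᵁ U.1).ι (D.map t.left)).symm.trans ?_
    rw [← hw]
    exact Scheme.IdealSheafData.comap_comp _ _ _
  let i₀ : Over i := Over.mk (𝟙 i)
  let V₀ : (D.obj i).Opens := D.map (𝟙 i) ⁻¹ᵁ U.1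
  obtain ⟨g', hg'⟩ : ∃ g', (J' i₀).ideal ⟨⊤, isAffineOpen_top (D'.obj i₀)⟩ = Ideal.span {g'} := by
    have : IsAffine V₀.toScheme := U.2.preimage (D.map (𝟙 i))
    have hle : (⊤ : V₀.toScheme.Opens) ≤ V₀.ι ⁻¹ᵁ U.1 := fun z _ => by
      have hz : D.map (𝟙 i) z.1 ∈ U.1 := z.2
      rw [D.map_id] at hz
      exact hz
    refine ⟨V₀.ι.appLE U.1 ⊤ hle g, ?_⟩
    show ((J i).comap V₀.ι).ideal ⟨⊤, isAffineOpen_top _⟩ = _
    rw [IdealComap.ideal_comap (J i) V₀.ι ⟨⊤, isAffineOpen_top _⟩ U hle, hg, Ideal.map_span, Set.image_singleton]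
    rfl
  have key := ec_limit_affine D' (opensCone D c i U.1) (isLimitOpensCone D c hc i U.1) J' hJ' hmin' i₀
    (fun j => ⟨Over.homMk j.hom⟩) hg'
  have hle : p ⁻¹ᵁ U.1 ≤ p ⁻¹ᵁ V₀ := by rw [show V₀ = U.1 from by show D.map (𝟙 i) ⁻¹ᵁ U.1 = U.1; rw [D.map_id]; rfl]
  have hw : p.resLE V₀ (p ⁻¹ᵁ U.1) hle ≫ V₀.ι = (p ⁻¹ᵁ U.1).ι ≫ p := Scheme.Hom.resLE_comp_ι _ _
  have he : BlowUp.IsEffCartierIdeal ((((J i).comap V₀.ι)).comap (p.resLE V₀ (p ⁻¹ᵁ U.1) hle)) := key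
  rw [← Scheme.IdealSheafData.comap_comp, hw, Scheme.IdealSheafData.comap_comp] at he
  obtain ⟨V, hxV, a, ha, hV⟩ := he ⟨x, hxU⟩
  refine ⟨⟨(p ⁻¹ᵁ U.1).ι ''ᵁ V.1, V.2.image_of_isOpenImmersion _⟩, ⟨⟨x, hxU⟩, hxV, rfl⟩,
    ((p ⁻¹ᵁ U.1).ι.appIso V.1).inv a, ?_, ?_⟩
  · exact (MulEquivClass.map_nonZeroDivisors
      ((p ⁻¹ᵁ U.1).ι.appIso V.1).symm.commRingCatIsoToRingEquiv).le ⟨a, ha, rfl⟩
  · rw [Scheme.IdealSheafData.ideal_comap_of_isOpenImmersion] at hV
    have hb := ConcreteCategory.bijective_of_isIso ((p ⁻¹ᵁ U.1).ι.appIso V.1).inv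
    have := congrArg (Ideal.map ((p ⁻¹ᵁ U.1).ι.appIso V.1).inv.hom) hV
    rwa [Ideal.map_comap_of_surjective _ hb.2, Ideal.map_span, Set.image_singleton] at this

end Groth.Agent.ModPairBasic
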