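import Groth.Agent.ModPairBasic.Residual
import Groth.Agent.ModPairBasic.Limit

/-!
# Effective Cartier divisors pull back along blow-ups (no construction of the blow-up needed)
-/

universe u

open CategoryTheory CategoryTheory.Limits AlgebraicGeometry TopologicalSpace
open scoped nonZeroDivisors

namespace Groth.Agent.ModPairBasic

variable {X Y : Scheme.{u}}

/-- Pull-back of an ideal sheaf along `Spec R ⟶ V ⊆ X`. -/
lemma ideal_comap_specMap (Z : X.IdealSheafData) (V : X.affineOpens) {R : CommRingCat.{u}} (φ : Γ(X, V.1) ⟶ R) :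
    (Z.comap (Spec.map φ ≫ V.2.fromSpec)).ideal ⟨⊤, isAffineOpen_top _⟩ =
      (Z.ideal V).map (φ ≫ (Scheme.ΓSpecIso R).inv).hom := by
  have hle : (⊤ : (Spec R).Opens) ≤ (Spec.map φ ≫ V.2.fromSpec) ⁻¹ᵁ V.1 := fun y _ => by
    show (Spec.map φ ≫ V.2.fromSpec) y ∈ V.1
    rw [Scheme.Hom.comp_apply]
    exact V.2.range_fromSpec.le ⟨_, rfl⟩
  rw [IdealComap.ideal_comap Z _ ⟨⊤, isAffineOpen_top _⟩ V hle]
  congr 2
  apply Spec.map_injective
  have h1 := IsAffineOpen.SpecMap_appLE_fromSpec (Spec.map φ ≫ V.2.fromSpec) V.2 (isAffineOpen_top (Spec R)) hle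
  rw [IsAffineOpen.fromSpec_top, Scheme.isoSpec_Spec_inv] at h1
  have h2 : Spec.map ((Spec.map φ ≫ V.2.fromSpec).appLE V.1 ⊤ hle) ≫ V.2.fromSpec =
      Spec.map (φ ≫ (Scheme.ΓSpecIso R).inv) ≫ V.2.fromSpec := by
    rw [Spec.map_comp, Category.assoc]
    exact h1
  have := V.2.isOpenImmersion_fromSpec
  exact (cancel_mono V.2.fromSpec).mp h2

lemma ec_specMap {Z : X.IdealSheafData} {V : X.affineOpens} {R : CommRingCat.{u}} (φ : Γ(X, V.1) ⟶ R) {r : R}
    (hr : r ∈ (↑R : Type u)⁰) (h : (Z.ideal V).map φ.hom = Ideal.span {r}) :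
    BlowUp.IsEffCartierIdeal (Z.comap (Spec.map φ ≫ V.2.fromSpec)) := fun _ => by
  refine ⟨⟨⊤, isAffineOpen_top _⟩, trivial, (Scheme.ΓSpecIso R).inv r,
    (MulEquivClass.map_nonZeroDivisors (Scheme.ΓSpecIso R).symm.commRingCatIsoToRingEquiv).le ⟨r, hr, rfl⟩, ?_⟩
  rw [ideal_comap_specMap, CommRingCat.hom_comp, ← Ideal.map_map, h, Ideal.map_span, Set.image_singleton]

section algebra

variable {A B : Type u} [CommRing A] [CommRing B] (I : Ideal A) (a : A)

lemma algebraMap_affineAlgebra_mem_nzd {h : A} (hh : h ∈ A⁰) :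
    algebraMap A (BlowUp.affineAlgebra A I a) h ∈ (BlowUp.affineAlgebra A I a)⁰ := by
  refine mem_nonZeroDivisors_iff_right.mpr fun c hc => Subtype.ext ?_
  have h1 : algebraMap A (Localization.Away a) h ∈ (Localization.Away a)⁰ :=
    IsLocalization.map_nonZeroDivisors_le (Submonoid.powers a) _ ⟨h, hh, rfl⟩
  exact mem_nonZeroDivisors_iff_right.mp h1 _ (congrArg Subtype.val hc)

lemma self_mem_nzd : algebraMap A (BlowUp.affineAlgebra A I a) a ∈ (BlowUp.affineAlgebra A I a)⁰ := by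
  refine mem_nonZeroDivisors_iff_right.mpr fun c hc => Subtype.ext ?_
  exact (IsLocalization.map_units (Localization.Away a) (⟨a, Submonoid.mem_powers a⟩ : Submonoid.powers a)).mul_left_eq_zero.mp
    (congrArg Subtype.val hc)

lemma map_affineAlgebra (ha : a ∈ I) :
    I.map (algebraMap A (BlowUp.affineAlgebra A I a)) = Ideal.span {algebraMap A (BlowUp.affineAlgebra A I a) a} := by
  refine le_antisymm (Ideal.map_le_iff_le_comap.mpr fun x hx => ?_)
    ((Ideal.span_singleton_le_iff_mem _).mpr (Ideal.mem_map_of_mem _ ha))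
  refine Ideal.mem_comap.mpr (Ideal.mem_span_singleton.mpr
    ⟨⟨IsLocalization.mk' (Localization.Away a) x ⟨a, Submonoid.mem_powers a⟩,
      Algebra.subset_adjoin ⟨x, hx, rfl⟩⟩, Subtype.ext ?_⟩)
  exact (IsLocalization.mk'_spec' (Localization.Away a) x (⟨a, Submonoid.mem_powers a⟩ : Submonoid.powers a)).symm

/-- Universal property of the affine blow-up algebra. -/
lemma exists_hom_affineAlgebra (φ : A →+* B) (hn : φ a ∈ B⁰) (hdvd : ∀ x ∈ I, φ a ∣ φ x) :
    ∃ κ : BlowUp.affineAlgebra A I a →+* B, κ.comp (algebraMap A _) = φ := by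
  letI := φ.toAlgebra
  let S := Localization.Away (φ a)
  have hu : IsUnit (algebraMap A S a) := by
    rw [IsScalarTower.algebraMap_apply A B S]
    exact IsLocalization.map_units S (⟨φ a, Submonoid.mem_powers _⟩ : Submonoid.powers (φ a))
  let ψ : Localization.Away a →ₐ[A] S :=
    IsLocalization.liftAlgHom (f := Algebra.ofId A S) (M := Submonoid.powers a)
      (fun ⟨y, n, hn'⟩ => hn' ▸ by simpa using hu.pow n)
  let ι : B →ₐ[A] S := IsScalarTower.toAlgHom A B S
  have hinj : Function.Injective ι := IsLocalization.injective S (Submonoid.powers_le.mpr hn)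
  have hle : BlowUp.affineAlgebra A I a ≤ ι.range.comap ψ := by
    refine Algebra.adjoin_le ?_
    rintro _ ⟨x, hx, rfl⟩
    obtain ⟨d, hd⟩ := hdvd x hx
    refine ⟨d, hu.mul_left_cancel ?_⟩
    calc algebraMap A S a * ι d = ι (φ a * d) := by rw [map_mul]; congr 1
      _ = ι (φ x) := by rw [← hd]
      _ = ψ (algebraMap A _ x) := by rw [ψ.commutes]; exact ι.commutes x
      _ = algebraMap A S a * ψ (IsLocalization.mk' (Localization.Away a) x ⟨a, Submonoid.mem_powers a⟩) := by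
          rw [← IsLocalization.mk'_spec' (Localization.Away a) x (⟨a, Submonoid.mem_powers a⟩ : Submonoid.powers a),
            map_mul, ψ.commutes]
  choose κ hκ using fun c : BlowUp.affineAlgebra A I a => hle c.2
  refine ⟨{ toFun := κ, map_one' := hinj ?_, map_mul' := fun x y => hinj ?_,
            map_zero' := hinj ?_, map_add' := fun x y => hinj ?_ }, RingHom.ext fun x => hinj ?_⟩
  · exact (hκ 1).trans ((map_one ψ).trans (map_one ι).symm)
  · exact (hκ _).trans ((map_mul ψ _ _).trans (((map_mul ι _ _).trans (congrArg₂ _ (hκ x) (hκ y))).symm))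
  · exact (hκ 0).trans ((map_zero ψ).trans (map_zero ι).symm)
  · exact (hκ _).trans ((map_add ψ _ _).trans (((map_add ι _ _).trans (congrArg₂ _ (hκ x) (hκ y))).symm))
  · exact (hκ _).trans ((ψ.commutes x).trans (ι.commutes x).symm)

end algebra

/-- Local generator of the exceptional divisor coming from the centre. -/
lemma exists_chart {π : Y ⟶ X} {Z : X.IdealSheafData} (hE : BlowUp.IsEffCartierIdeal (Z.comap π))
    (V : X.affineOpens) {y : Y} (hy : π y ∈ V.1) :
    ∃ (W : Y.affineOpens) (hW : W.1 ≤ π ⁻¹ᵁ V.1) (a : Γ(X, V.1)), y ∈ W.1 ∧ a ∈ Z.ideal V ∧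
      π.appLE V.1 W.1 hW a ∈ Γ(Y, W.1)⁰ ∧ (Z.comap π).ideal W = Ideal.span {π.appLE V.1 W.1 hW a} := by
  obtain ⟨_, ⟨W₀, hW₀, rfl⟩, hyW₀, hsub⟩ := Y.isBasis_affineOpens.exists_subset_of_mem_open
    (show y ∈ π ⁻¹ᵁ V.1 from hy) (π ⁻¹ᵁ V.1).isOpen
  obtain ⟨r, hyr, e, he, hJ⟩ := ec_refine hE ⟨W₀, hW₀⟩ hyW₀
  let W₁ := Y.affineBasicOpen (U := ⟨W₀, hW₀⟩) r
  have hW₁ : W₁.1 ≤ π ⁻¹ᵁ V.1 := (Y.basicOpen_le r).trans hsub
  have hm : (Z.ideal V).map (π.appLE V.1 W₁.1 hW₁).hom = Ideal.span {e} := by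
    rw [← IdealComap.ideal_comap Z π W₁ V hW₁]; exact hJ
  -- some generator of `Z` differs from `e` by a unit near `y`
  have : ∃ a ∈ Z.ideal V, ∃ d, π.appLE V.1 W₁.1 hW₁ a = e * d ∧ y ∈ Y.basicOpen d := by
    by_contra hne
    push_neg at hne
    have hsub' : (Z.ideal V).map (π.appLE V.1 W₁.1 hW₁).hom ≤
        Ideal.span {e} * (W₁.2.primeIdealOf ⟨y, hyr⟩).asIdeal := by
      refine Ideal.map_le_iff_le_comap.mpr fun a ha => Ideal.mem_comap.mpr ?_
      obtain ⟨d, hd⟩ := Ideal.mem_span_singleton.mp (hm.le (Ideal.mem_map_of_mem _ ha))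
      refine Ideal.mem_span_singleton_mul.mpr ⟨d, ?_, hd.symm⟩
      by_contra hdp
      refine hne a ha d hd ?_
      have hb : W₁.2.primeIdealOf ⟨y, hyr⟩ ∈ PrimeSpectrum.basicOpen d := hdp
      rw [← W₁.2.fromSpec_preimage_basicOpen] at hb
      have hb2 : W₁.2.fromSpec (W₁.2.primeIdealOf ⟨y, hyr⟩) ∈ Y.basicOpen d := hb
      rwa [W₁.2.fromSpec_primeIdealOf] at hb2
    obtain ⟨p, hp, hpe⟩ := Ideal.mem_span_singleton_mul.mp
      (hsub' (hm.ge (Ideal.mem_span_singleton_self e)))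
    have : p = 1 := (mul_cancel_left_mem_nonZeroDivisors he).mp (hpe.trans (mul_one e).symm)
    exact (W₁.2.primeIdealOf ⟨y, hyr⟩).isPrime.ne_top ((Ideal.eq_top_iff_one _).mpr (this ▸ hp))
  obtain ⟨a, ha, d, hd, hyd⟩ := this
  let W := Y.affineBasicOpen (U := W₁) d
  have hW : W.1 ≤ π ⁻¹ᵁ V.1 := (Y.basicOpen_le d).trans hW₁
  have := W₁.2.isLocalization_basicOpen d
  have hu : IsUnit ((Y.presheaf.map (homOfLE (Y.basicOpen_le d)).op).hom d) :=
    IsLocalization.map_units Γ(Y, Y.basicOpen d) (⟨d, Submonoid.mem_powers d⟩ : Submonoid.powers d)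
  have hae : π.appLE V.1 W.1 hW a = (Y.presheaf.map (homOfLE (Y.basicOpen_le d)).op).hom e *
      (Y.presheaf.map (homOfLE (Y.basicOpen_le d)).op).hom d := by
    rw [← map_mul, ← hd, ← CommRingCat.comp_apply, Scheme.Hom.appLE_map]
    rfl
  refine ⟨W, hW, a, hyd, ha, ?_, ?_⟩
  · rw [hae]
    exact mul_mem (nzd_basicOpen he d) hu.mem_nonZeroDivisors
  · rw [hae, ideal_of_le (V := W) (Y.basicOpen_le d) hJ]
    exact (Ideal.span_singleton_mul_right_unit hu _).symm

lemma app_eq_zero_of_fac {A B C : Scheme.{u}} {f : A ⟶ C} {g : A ⟶ B} {h : B ⟶ C} (e : f = g ≫ h) {U : C.Opens}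
    (s : Γ(C, U)) (hz : (h.app U).hom s = 0) : (f.app U).hom s = 0 := by
  subst e
  show (g.app (h ⁻¹ᵁ U)).hom ((h.app U).hom s) = 0
  rw [hz, map_zero]

lemma app_eq_zero_of_dense {A B C : Scheme.{u}} (j : A ⟶ B) [IsSchemeTheoreticallyDominant j] [QuasiCompact j]
    (g : B ⟶ C) {U : C.Opens} (s : Γ(C, U)) (hz : ((j ≫ g).app U).hom s = 0) : (g.app U).hom s = 0 := by
  apply j.app_injective (g ⁻¹ᵁ U)
  rw [map_zero]
  exact hz

lemma eq_zero_of_fromSpec {W : Y.affineOpens} (s : Γ(Y, W.1)) (h : (W.2.fromSpec.app W.1).hom s = 0) : s = 0 := by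
  have : IsIso (W.2.fromSpec.app W.1) := by rw [W.2.fromSpec_app_self]; infer_instance
  exact (ConcreteCategory.bijective_of_isIso (W.2.fromSpec.app W.1)).1 (h.trans (map_zero _).symm)

set_option maxHeartbeats 1000000 in
/-- Effective Cartier divisors pull back to effective Cartier divisors along blow-ups. -/
theorem ec_comap_of_isBlowUp {π : Y ⟶ X} {Z : X.IdealSheafData} (hπ : BlowUp.IsBlowUp π Z)
    {H : X.IdealSheafData} (hH : BlowUp.IsEffCartierIdeal H) : BlowUp.IsEffCartierIdeal (H.comap π) := by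
  have hl := isLocPrincipal_comap (isLocPrincipal_of_ec hH) π
  set O := ModPair.interior (H.comap π) with hO
  have := quasiCompact_interior_ι hl
  suffices IsSchemeTheoreticallyDominant O.ι from ec_of_dense hl
  have key : ∀ y : Y, ∃ W : Y.affineOpens, y ∈ W.1 ∧ ∀ s : Γ(Y, W.1), O.ι.app W.1 s = 0 → s = 0 := by
    intro y
    obtain ⟨V, hyV, h, hh, hHV⟩ := hH (π y)
    obtain ⟨W, hW, a, hyW, ha, hnz, hEW⟩ := exists_chart hπ.1 V hyV
    refine ⟨W, hyW, fun s hs => ?_⟩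
    let C := BlowUp.affineAlgebra Γ(X, V.1) (Z.ideal V) a
    let ψ : Γ(X, V.1) ⟶ CommRingCat.of C := CommRingCat.ofHom (algebraMap Γ(X, V.1) C)
    obtain ⟨κ, hκ⟩ := exists_hom_affineAlgebra (Z.ideal V) a (π.appLE V.1 W.1 hW).hom hnz fun x hx => by
      refine Ideal.mem_span_singleton.mp ?_
      rw [← hEW, IdealComap.ideal_comap Z π W V hW]
      exact Ideal.mem_map_of_mem _ hx
    obtain ⟨g, hg, -⟩ := hπ.2 _ (Spec.map ψ ≫ V.2.fromSpec)
      (ec_specMap ψ (self_mem_nzd _ a) (map_affineAlgebra _ a ha))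
    have := W.2.isOpenImmersion_fromSpec
    have hfac : W.2.fromSpec = Spec.map (CommRingCat.ofHom κ) ≫ g := by
      obtain ⟨m, -, hm⟩ := hπ.2 _ (W.2.fromSpec ≫ π) (by
        rw [Scheme.IdealSheafData.comap_comp]; exact ec_comap_flat hπ.1 _)
      refine (hm _ rfl).trans (hm _ ?_).symm
      show (Spec.map (CommRingCat.ofHom κ) ≫ g) ≫ π = W.2.fromSpec ≫ π
      rw [Category.assoc, hg, ← IsAffineOpen.SpecMap_appLE_fromSpec π V.2 W.2 hW, ← Spec.map_comp_assoc]
      congr 2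
      exact CommRingCat.hom_ext hκ
    have hd : IsSchemeTheoreticallyDominant (g ⁻¹ᵁ O).ι := by
      rw [hO, preimage_interior, ← Scheme.IdealSheafData.comap_comp, hg]
      refine dense_of_ec (ec_specMap ψ (algebraMap_affineAlgebra_mem_nzd _ a hh) ?_)
      rw [hHV, Ideal.map_span, Set.image_singleton]
      rfl
    have : QuasiCompact (g ⁻¹ᵁ O).ι := by
      rw [hO, preimage_interior]; exact quasiCompact_interior_ι (isLocPrincipal_comap hl g)
    have h1 : (g.app W.1).hom s = 0 :=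
      app_eq_zero_of_dense (g ⁻¹ᵁ O).ι g s (app_eq_zero_of_fac (morphismRestrict_ι g O).symm s hs)
    exact eq_zero_of_fromSpec s (app_eq_zero_of_fac hfac s h1)
  choose W hW hker using key
  refine ⟨Scheme.IdealSheafData.ext_of_iSup_eq_top W
    (eq_top_iff.mpr fun y _ => Opens.mem_iSup.mpr ⟨y, hW y⟩) fun y => ?_⟩
  rw [Scheme.Hom.ker_apply, Scheme.IdealSheafData.ideal_bot, Pi.bot_apply, eq_bot_iff]
  exact fun s hs => (Submodule.mem_bot _).mpr (hker y s hs)

lemma exists_gen_of_mul_span {R : Type u} [CommRing R] {I : Ideal R} {e p : R} (hp : p ∈ R⁰)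
    (h : I * Ideal.span {e} = Ideal.span {p}) : ∃ k ∈ R⁰, I = Ideal.span {k} := by
  obtain ⟨k, hk, hke⟩ := Ideal.mem_mul_span_singleton.mp (h.ge (Ideal.mem_span_singleton_self p))
  have hn := mul_mem_nonZeroDivisors.mp (hke ▸ hp)
  refine ⟨k, hn.1, le_antisymm (fun q hq => ?_) ((Ideal.span_singleton_le_iff_mem _).mpr hk)⟩
  obtain ⟨c, hc⟩ := Ideal.mem_span_singleton.mp (h.le (Ideal.mul_mem_mul hq (Ideal.mem_span_singleton_self e)))
  refine Ideal.mem_span_singleton.mpr ⟨c, ?_⟩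
  refine (mul_cancel_right_mem_nonZeroDivisors hn.2).mp ?_
  rw [hc, ← hke]
  ring

/-- The divisor `D_X + D_T - E`. -/
theorem ec_of_mul_ec {K E : X.IdealSheafData} (hl : BlowUp.IsEffCartierIdeal (K * E))
    (hE : BlowUp.IsEffCartierIdeal E) : BlowUp.IsEffCartierIdeal K := by
  intro x
  obtain ⟨V, hxV, e, he, hEV⟩ := hE x
  obtain ⟨r, hxr, p, hp, hP⟩ := ec_refine hl V hxV
  have he' := ideal_of_le (V := X.affineBasicOpen r) (X.basicOpen_le r) hEV
  rw [Scheme.IdealSheafData.ideal_mul, Pi.mul_apply, he'] at hP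
  obtain ⟨k, hk, hK⟩ := exists_gen_of_mul_span hp hP
  exact ⟨X.affineBasicOpen r, hxr, k, hk, hK⟩

end Groth.Agent.ModPairBasic
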