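import Groth.Agent.ModPairBasic.Open
import Mathlib

/-!
# Coproducts of modulus pairs
-/

set_option autoImplicit false
universe v u
open CategoryTheory CategoryTheory.Limits AlgebraicGeometry TopologicalSpace

namespace Groth.Agent.ModPairBasic

/-- Ideal sheaves agreeing on an open cover agree. -/
lemma eq_of_openCover {Y : Scheme.{u}} {σ : Type v} {X : σ → Scheme.{u}} (j : ∀ i, X i ⟶ Y)
    [∀ i, IsOpenImmersion (j i)] (hcov : ∀ y : Y, ∃ i, y ∈ Set.range (j i))
    {I J : Y.IdealSheafData} (h : ∀ i, I.comap (j i) = J.comap (j i)) : I = J := by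
  choose i hi using hcov
  choose x hx using hi
  have hx' : ∀ y : Y, ∃ U : (X (i y)).affineOpens, x y ∈ U.1 := fun y => by
    obtain ⟨_, ⟨U : (X (i y)).Opens, hU, rfl⟩, hxU, -⟩ := (X (i y)).isBasis_affineOpens.exists_subset_of_mem_open
      (Set.mem_univ (x y)) isOpen_univ
    exact ⟨⟨U, hU⟩, hxU⟩
  choose U hU using hx'
  refine Scheme.IdealSheafData.ext_of_iSup_eq_top
    (fun y => ⟨j (i y) ''ᵁ (U y).1, (U y).2.image_of_isOpenImmersion (j (i y))⟩)
    (eq_top_iff.mpr fun y _ => Opens.mem_iSup.mpr ⟨y, x y, hU y, hx y⟩) fun y => ?_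
  have h1 := congrArg (fun K : (X (i y)).IdealSheafData => K.ideal (U y)) (h (i y))
  simp only [Scheme.IdealSheafData.ideal_comap_of_isOpenImmersion] at h1
  exact Ideal.comap_injective_of_surjective _
    (ConcreteCategory.bijective_of_isIso ((j (i y)).appIso (U y).1).inv).2 h1

lemma le_of_openCover {Y : Scheme.{u}} {σ : Type v} {X : σ → Scheme.{u}} (j : ∀ i, X i ⟶ Y)
    [∀ i, IsOpenImmersion (j i)] (hcov : ∀ y : Y, ∃ i, y ∈ Set.range (j i))
    {I J : Y.IdealSheafData} (h : ∀ i, I.comap (j i) ≤ J.comap (j i)) : I ≤ J :=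
  sup_eq_right.mp (eq_of_openCover j hcov fun i => by
    rw [Scheme.IdealSheafData.comap_sup]; exact sup_eq_right.mpr (h i))

variable {σ : Type v} [Small.{u} σ] (X : σ → Scheme.{u})

lemma sigma_cover (y : (∐ X : Scheme.{u})) : ∃ i, y ∈ Set.range (Sigma.ι X i) :=
  ⟨_, (sigmaOpenCover X).covers y⟩

/-- There is an ideal sheaf on the disjoint union restricting to given ones. -/
theorem exists_sigma_ideal (I : ∀ i, (X i).IdealSheafData) :
    ∃ K : (∐ X : Scheme.{u}).IdealSheafData, ∀ i, K.comap (Sigma.ι X i) = I i := by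
  let f : (∐ fun i => (I i).subscheme) ⟶ ∐ X := Sigma.desc fun i => (I i).subschemeι ≫ Sigma.ι X i
  have hf : ∀ i, Sigma.ι (fun i => (I i).subscheme) i ≫ f = (I i).subschemeι ≫ Sigma.ι X i :=
    fun i => Sigma.ι_desc _ _
  have hpre : ∀ i, f ⁻¹ᵁ (Sigma.ι X i).opensRange = (Sigma.ι (fun i => (I i).subscheme) i).opensRange := by
    intro i
    ext z
    obtain ⟨k, w, rfl⟩ := sigma_cover (fun i => (I i).subscheme) z
    have hz : f (Sigma.ι (fun i => (I i).subscheme) k w) = Sigma.ι X k ((I k).subschemeι w) := by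
      rw [← Scheme.Hom.comp_apply, hf]; rfl
    show f (Sigma.ι (fun i => (I i).subscheme) k w) ∈ Set.range (Sigma.ι X i) ↔
      Sigma.ι (fun i => (I i).subscheme) k w ∈ Set.range (Sigma.ι (fun i => (I i).subscheme) i)
    rw [hz]
    refine ⟨fun ⟨x, hx⟩ => ?_, fun ⟨x, hx⟩ => ?_⟩ <;>
      · have := congrArg Sigma.fst ((sigmaι_eq_iff _ _ _ _ _).mp hx)
        simp only at this
        subst this
        exact ⟨_, rfl⟩
  have hp : ∀ i, IsPullback (I i).subschemeι (Sigma.ι (fun i => (I i).subscheme) i) (Sigma.ι X i) f := fun i =>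
    IsOpenImmersion.isPullback _ _ _ _ (hf i) (hpre i)
  have : IsClosedImmersion f := by
    refine IsZariskiLocalAtTarget.of_openCover (P := @IsClosedImmersion) (sigmaOpenCover X) fun i => ?_
    change IsClosedImmersion (pullback.snd f (Sigma.ι X i))
    rw [← (hp i).flip.isoPullback_inv_snd]
    infer_instance
  refine ⟨f.ker, fun i => ?_⟩
  rw [← Scheme.IdealSheafData.ker_fst_of_isClosedImmersion, ← (hp i).isoPullback_inv_fst,
    Scheme.Hom.ker_comp_of_isIso, Scheme.IdealSheafData.ker_subschemeι]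

/-- The category of modulus pairs has coproducts, preserved by the total space functor. -/
theorem exists_cofan (P : σ → ModPair.Pair.{u}) :
    ∃ c : Cofan P, Nonempty (IsColimit c) ∧ Nonempty (IsColimit (ModPair.Pair.forget.mapCocone c)) := by
  obtain ⟨K, hK⟩ := exists_sigma_ideal (fun i => (P i).total) (fun i => (P i).mod)
  let Q : ModPair.Pair.{u} := ⟨∐ fun i => (P i).total, K, ec_of_openCover K fun y => by
    obtain ⟨i, hi⟩ := sigma_cover (fun i => (P i).total) y
    exact ⟨_, Sigma.ι (fun i => (P i).total) i, inferInstance, hi, (hK i).symm ▸ (P i).isEffCartier⟩⟩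
  let c : Cofan P := Cofan.mk Q fun i => ⟨Sigma.ι (fun i => (P i).total) i, (hK i).ge⟩
  have hamb : ∀ (R : ModPair.Pair.{u}) (g : ∀ i, P i ⟶ R),
      ModPair.IsAmbient K R.mod (Sigma.desc fun i => (g i).hom) := fun R g => by
    refine le_of_openCover (Sigma.ι fun i => (P i).total) (sigma_cover _) fun i => ?_
    rw [hK, ← Scheme.IdealSheafData.comap_comp, Sigma.ι_desc]
    exact (g i).cond
  refine ⟨c, ⟨mkCofanColimit c (fun s => ⟨Sigma.desc fun i => (s.inj i).hom, hamb s.pt s.inj⟩)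
    (fun s i => ModPair.Pair.Hom.ext (Sigma.ι_desc _ _)) (fun s m hm => ModPair.Pair.Hom.ext ?_)⟩,
    ⟨(isColimitMapCoconeCofanMkEquiv ModPair.Pair.forget P _).symm (coproductIsCoproduct _)⟩⟩
  exact Sigma.hom_ext _ _ fun i => (congrArg ModPair.Pair.Hom.hom (hm i)).trans (Sigma.ι_desc (fun i => (s.inj i).hom) i).symm

end Groth.Agent.ModPairBasic
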