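import Groth.Agent.ModPairBasic.Coprod

/-!
# Admissible blow-ups are stable under coproducts
-/

set_option autoImplicit false
universe v u
open CategoryTheory CategoryTheory.Limits AlgebraicGeometry TopologicalSpace

namespace Groth.Agent.ModPairBasic

variable {σ : Type v} [Small.{u} σ]

/-- The structure of an arbitrary coproduct cofan of modulus pairs. -/
theorem cofan_data (P : σ → ModPair.Pair.{u}) (c : Cofan P) (hc : IsColimit c) :
    (∀ i, IsOpenImmersion (c.inj i).hom) ∧ (∀ y : c.pt.total, ∃ i, y ∈ Set.range (c.inj i).hom) ∧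
      (∀ i k x z, (c.inj i).hom x = (c.inj k).hom z → i = k) ∧
      ∀ i, c.pt.mod.comap (c.inj i).hom = (P i).mod := by
  obtain ⟨c', ⟨hc'⟩, ⟨hs⟩⟩ := exists_cofan P
  let e := hc'.coconePointUniqueUpToIso hc
  have he : ∀ i, c'.inj i ≫ e.hom = c.inj i := fun i => hc'.comp_coconePointUniqueUpToIso_hom hc ⟨i⟩
  have hmod : ∀ i, c.pt.mod.comap (c.inj i).hom = (P i).mod := by
    intro i
    refine le_antisymm ?_ (c.inj i).cond
    obtain ⟨K, hK⟩ := exists_sigma_ideal (fun i => (P i).total) (fun i => (P i).mod)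
    let Q : ModPair.Pair.{u} := ⟨∐ fun i => (P i).total, K, ec_of_openCover K fun y => by
      obtain ⟨i, hi⟩ := sigma_cover (fun i => (P i).total) y
      exact ⟨_, Sigma.ι (fun i => (P i).total) i, inferInstance, hi, (hK i).symm ▸ (P i).isEffCartier⟩⟩
    let d := hc.desc (Cofan.mk Q fun i => ⟨Sigma.ι (fun i => (P i).total) i, (hK i).ge⟩)
    have hd : c.inj i ≫ d = (⟨Sigma.ι (fun i => (P i).total) i, (hK i).ge⟩ : P i ⟶ Q) := hc.fac _ ⟨i⟩
    have hd' : (c.inj i).hom ≫ d.hom = Sigma.ι (fun i => (P i).total) i := congrArg ModPair.Pair.Hom.hom hd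
    calc c.pt.mod.comap (c.inj i).hom ≤ (K.comap d.hom).comap (c.inj i).hom :=
          Scheme.IdealSheafData.comap_mono _ d.cond
      _ = (P i).mod := by rw [← Scheme.IdealSheafData.comap_comp, hd', hK]
  let F := ModPair.Pair.forget.mapIso e
  let hS := (isColimitMapCoconeCofanMkEquiv ModPair.Pair.forget P c'.inj)
    (IsColimit.ofIsoColimit hs (Cocone.ext (Iso.refl _) (fun ⟨j⟩ => Category.comp_id _)))
  let G : (∐ fun i => (P i).total) ≅ c.pt.total :=
    ((coproductIsCoproduct (fun i => (P i).total)).coconePointUniqueUpToIso hS) ≪≫ F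
  have hG : ∀ i, Sigma.ι (fun i => (P i).total) i ≫ G.hom = (c.inj i).hom := by
    intro i
    rw [← congrArg ModPair.Pair.Hom.hom (he i)]
    rw [Iso.trans_hom, ← Category.assoc]
    exact congrArg (· ≫ F.hom) ((coproductIsCoproduct _).comp_coconePointUniqueUpToIso_hom hS ⟨i⟩)
  refine ⟨fun i => hG i ▸ inferInstance, fun y => ?_, fun i k x z h => ?_, hmod⟩
  · obtain ⟨i, x, hx⟩ := sigma_cover (fun i => (P i).total) (G.inv y)
    exact ⟨i, x, by rw [← hG, Scheme.Hom.comp_apply, hx, ← Scheme.Hom.comp_apply, Iso.inv_hom_id]; rfl⟩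
  · rw [← hG, ← hG, Scheme.Hom.comp_apply, Scheme.Hom.comp_apply] at h
    have h' := (sigmaι_eq_iff _ _ _ _ _).mp (G.hom.isOpenEmbedding.injective h)
    exact congrArg Sigma.fst h'

omit [Small.{u} σ] in
lemma isIso_restrict {X Y : Scheme.{u}} (f : X ⟶ Y) [IsIso f] (U : Y.Opens) : IsIso (f ∣_ U) :=
  (MorphismProperty.isomorphisms.iff _).mp
    (MorphismProperty.of_isPullback (P := MorphismProperty.isomorphisms Scheme) (isPullback_morphismRestrict f U).flip
      ((MorphismProperty.isomorphisms.iff _).mpr inferInstance))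

instance respectsIso_admBlowup : ModPair.Pair.admBlowup.{u}.RespectsIso := by
  have key : ∀ {A B : ModPair.Pair.{u}} (e : A ≅ B), IsIso e.hom.hom ∧ A.mod = B.mod.comap e.hom.hom := by
    intro A B e
    have h := congrArg ModPair.Pair.Hom.hom e.hom_inv_id
    refine ⟨⟨e.inv.hom, h, congrArg ModPair.Pair.Hom.hom e.inv_hom_id⟩, le_antisymm e.hom.cond ?_⟩
    calc B.mod.comap e.hom.hom ≤ (A.mod.comap e.inv.hom).comap e.hom.hom :=
          Scheme.IdealSheafData.comap_mono _ e.inv.cond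
      _ = A.mod := by rw [← Scheme.IdealSheafData.comap_comp]; rw [show e.hom.hom ≫ e.inv.hom = 𝟙 A.total from h, Scheme.IdealSheafData.comap_id]
  refine MorphismProperty.RespectsIso.mk _ (fun e f ⟨hm, hp, hi⟩ => ?_) (fun e f ⟨hm, hp, hi⟩ => ?_)
  · obtain ⟨he, hmod⟩ := key e
    refine ⟨?_, MorphismProperty.RespectsIso.precomp (P := @IsProper) e.hom.hom f.hom hp, ?_⟩
    · show _ = _
      rw [hmod, hm, ← Scheme.IdealSheafData.comap_comp]
      rfl
    · show IsIso ((e.hom.hom ≫ f.hom) ∣_ _)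
      rw [morphismRestrict_comp]
      exact IsIso.comp_isIso' (isIso_restrict _ _) hi
  · obtain ⟨he, hmod⟩ := key e
    refine ⟨?_, MorphismProperty.RespectsIso.postcomp (P := @IsProper) e.hom.hom f.hom hp, ?_⟩
    · show _ = _
      rw [hm, hmod, ← Scheme.IdealSheafData.comap_comp]
      rfl
    · show IsIso ((f.hom ≫ e.hom.hom) ∣_ _)
      rw [morphismRestrict_comp]
      have h2 : ∀ U, U = ModPair.interior _ → IsIso (f.hom ∣_ U) := fun U hU => hU ▸ hi
      exact IsIso.comp_isIso' (h2 _ ((preimage_interior _ e.hom.hom).trans (congrArg ModPair.interior hmod.symm)))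
        (isIso_restrict _ _)

set_option maxHeartbeats 400000 in
theorem stableUnderCoproducts (σ : Type v) [Small.{u} σ] :
    ModPair.Pair.admBlowup.{u}.IsStableUnderCoproductsOfShape σ := by
  refine ⟨fun X₁ X₂ c₁ c₂ hc₁ hc₂ f hf α hα => ?_⟩
  let d₁ : Cofan (fun i => X₁.obj ⟨i⟩) := Cofan.mk c₁.pt fun i => c₁.ι.app ⟨i⟩
  let d₂ : Cofan (fun i => X₂.obj ⟨i⟩) := Cofan.mk c₂.pt fun i => c₂.ι.app ⟨i⟩
  have h₁ : IsColimit d₁ := IsColimit.ofIsoColimit
    ((IsColimit.precomposeHomEquiv (Discrete.natIsoFunctor (F := X₁)).symm c₁).symm hc₁)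
    (Cocone.ext (Iso.refl _) (fun ⟨j⟩ => by simp [d₁]))
  have h₂ : IsColimit d₂ := IsColimit.ofIsoColimit
    ((IsColimit.precomposeHomEquiv (Discrete.natIsoFunctor (F := X₂)).symm c₂).symm hc₂)
    (Cocone.ext (Iso.refl _) (fun ⟨j⟩ => by simp [d₂]))
  obtain ⟨ho₁, hcov₁, hdis₁, hm₁⟩ := cofan_data _ d₁ h₁
  obtain ⟨ho₂, hcov₂, hdis₂, hm₂⟩ := cofan_data _ d₂ h₂
  have hsq : ∀ i, (d₁.inj i).hom ≫ α.hom = (f.app ⟨i⟩).hom ≫ (d₂.inj i).hom :=
    fun i => congrArg ModPair.Pair.Hom.hom (hα ⟨i⟩)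
  have hpre : ∀ i, α.hom ⁻¹ᵁ (d₂.inj i).hom.opensRange = (d₁.inj i).hom.opensRange := by
    intro i
    ext z
    obtain ⟨k, w, rfl⟩ := hcov₁ z
    have hz : α.hom ((d₁.inj k).hom w) = (d₂.inj k).hom ((f.app ⟨k⟩).hom w) := by
      rw [← Scheme.Hom.comp_apply, hsq]; rfl
    show α.hom ((d₁.inj k).hom w) ∈ Set.range (d₂.inj i).hom ↔ (d₁.inj k).hom w ∈ Set.range (d₁.inj i).hom
    rw [hz]
    refine ⟨fun ⟨x, hx⟩ => ?_, fun ⟨x, hx⟩ => ?_⟩
    · obtain rfl := hdis₂ _ _ _ _ hx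
      exact ⟨_, rfl⟩
    · obtain rfl := hdis₁ _ _ _ _ hx
      exact ⟨_, rfl⟩
  have hp : ∀ i, IsPullback (f.app ⟨i⟩).hom (d₁.inj i).hom (d₂.inj i).hom α.hom := fun i =>
    IsOpenImmersion.isPullback _ _ _ _ (hsq i) (hpre i)
  have hmin : c₁.pt.mod = c₂.pt.mod.comap α.hom := eq_of_openCover (fun i => (d₁.inj i).hom) hcov₁ fun i => by
    refine (hm₁ i).trans ?_
    rw [← Scheme.IdealSheafData.comap_comp, hsq, Scheme.IdealSheafData.comap_comp]
    exact (hf ⟨i⟩).1.trans (congrArg (fun K => Scheme.IdealSheafData.comap K _) (hm₂ i).symm)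
  let 𝒰 : c₂.pt.total.OpenCover :=
    Scheme.Cover.mkOfCovers σ (fun i => (X₂.obj ⟨i⟩).total) (fun i => (d₂.inj i).hom)
      (fun y => (hcov₂ y).imp fun i hi => hi) (fun i => ho₂ i)
  refine ⟨hmin, IsZariskiLocalAtTarget.of_openCover (P := @IsProper) 𝒰 fun i => ?_, ?_⟩
  · change IsProper (pullback.snd α.hom (d₂.inj i).hom)
    rw [← (hp i).flip.isoPullback_inv_snd]
    have := (hf ⟨i⟩).2.1
    infer_instance
  · have hI : ∀ i, (d₂.inj i).hom ⁻¹ᵁ ModPair.interior c₂.pt.mod = ModPair.interior (X₂.obj ⟨i⟩).mod :=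
      fun i => (preimage_interior _ _).trans (congrArg ModPair.interior (hm₂ i))
    let O := ModPair.interior c₂.pt.mod
    have hl : ∀ i, Set.range ((ModPair.interior (X₂.obj ⟨i⟩).mod).ι ≫ (d₂.inj i).hom) ⊆ Set.range O.ι := by
      intro i
      rintro _ ⟨x, rfl⟩
      rw [Scheme.Opens.range_ι]
      exact (hI i).ge x.2
    let l : ∀ i, ((ModPair.interior (X₂.obj ⟨i⟩).mod : Opens _) : Scheme.{u}) ⟶ (O : Scheme.{u}) :=
      fun i => IsOpenImmersion.lift O.ι _ (hl i)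
    have hlO : ∀ i, l i ≫ O.ι = (ModPair.interior (X₂.obj ⟨i⟩).mod).ι ≫ (d₂.inj i).hom :=
      fun i => IsOpenImmersion.lift_fac _ _ _
    have : ∀ i, IsOpenImmersion ((ModPair.interior (X₂.obj ⟨i⟩).mod).ι ≫ (d₂.inj i).hom) := fun i => inferInstance
    have hlo : ∀ i, IsOpenImmersion (l i) := fun i => by
      have : IsOpenImmersion (l i ≫ O.ι) := hlO i ▸ inferInstance
      exact IsOpenImmersion.of_comp (l i) O.ι
    let 𝒲 : (O : Scheme.{u}).OpenCover :=
      Scheme.Cover.mkOfCovers σ _ l (fun y => by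
        obtain ⟨i, x, hx⟩ := hcov₂ (O.ι y)
        refine ⟨i, ⟨x, (hI i).le (show (d₂.inj i).hom x ∈ O from hx ▸ y.2)⟩, O.ι.isOpenEmbedding.injective ?_⟩
        rw [← Scheme.Hom.comp_apply, hlO]
        exact hx) (fun i => hlo i)
    refine (MorphismProperty.isomorphisms.iff _).mp
      (IsZariskiLocalAtTarget.of_openCover (P := MorphismProperty.isomorphisms Scheme) 𝒲 fun i => ?_)
    change MorphismProperty.isomorphisms Scheme (pullback.snd (α.hom ∣_ O) (l i))
    have big : IsPullback (((f.app ⟨i⟩).hom ⁻¹ᵁ ModPair.interior (X₂.obj ⟨i⟩).mod).ι ≫ (d₁.inj i).hom)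
        ((f.app ⟨i⟩).hom ∣_ ModPair.interior (X₂.obj ⟨i⟩).mod) α.hom (l i ≫ O.ι) := by
      rw [hlO]
      exact (isPullback_morphismRestrict (f.app ⟨i⟩).hom (ModPair.interior (X₂.obj ⟨i⟩).mod)).flip.paste_horiz (hp i).flip
    have sq := (IsPullback.of_hasPullback (α.hom ∣_ O) (l i)).paste_horiz (isPullback_morphismRestrict α.hom O).flip
    have heq : pullback.snd (α.hom ∣_ O) (l i) =
        (sq.isoIsPullback _ _ big).hom ≫ ((f.app ⟨i⟩).hom ∣_ ModPair.interior (X₂.obj ⟨i⟩).mod) :=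
      (sq.isoIsPullback_hom_snd _ _ big).symm
    rw [MorphismProperty.isomorphisms.iff, heq]
    have : IsIso ((f.app ⟨i⟩).hom ∣_ ModPair.interior (X₂.obj ⟨i⟩).mod) := (hf ⟨i⟩).2.2
    infer_instance

end Groth.Agent.ModPairBasic
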