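import Groth.Prelude.Def_W4c6modpairsegaMP
import Groth.Agent.IdealComap.Basic
import Mathlib.AlgebraicGeometry.Morphisms.SchemeTheoreticallyDominant
import Mathlib.AlgebraicGeometry.Morphisms.ClosedImmersion
import Mathlib.AlgebraicGeometry.Morphisms.Affine

/-!
# Modulus pairs: locally principal ideals, interiors, scheme-theoretic density
-/

universe u

open CategoryTheory CategoryTheory.Limits AlgebraicGeometry TopologicalSpace
open scoped nonZeroDivisors

set_option linter.unusedSectionVars false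

namespace Groth.Agent.ModPairBasic

variable {X Y Z : Scheme.{u}}

/-- Locally generated by one section. -/
def IsLocPrincipal (J : X.IdealSheafData) : Prop :=
  ∀ x : X, ∃ U : X.affineOpens, x ∈ U.1 ∧ ∃ g : Γ(X, U.1), J.ideal U = Ideal.span {g}

lemma isLocPrincipal_of_ec {J : X.IdealSheafData} (h : BlowUp.IsEffCartierIdeal J) : IsLocPrincipal J :=
  fun x => by
    obtain ⟨U, hx, g, -, hg⟩ := h x
    exact ⟨U, hx, g, hg⟩

lemma ideal_of_le {J : X.IdealSheafData} {U V : X.affineOpens} (h : V ≤ U) {g : Γ(X, U.1)}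
    (hg : J.ideal U = Ideal.span {g}) :
    J.ideal V = Ideal.span {(X.presheaf.map (homOfLE h).op).hom g} := by
  rw [← J.map_ideal h, hg, Ideal.map_span, Set.image_singleton]

lemma isLocPrincipal_comap {J : Y.IdealSheafData} (hJ : IsLocPrincipal J) (f : X ⟶ Y) :
    IsLocPrincipal (J.comap f) := by
  intro x
  obtain ⟨V, hxV, g, hg⟩ := hJ (f x)
  obtain ⟨_, ⟨U, hU, rfl⟩, hxU, hUV⟩ :=
    X.isBasis_affineOpens.exists_subset_of_mem_open (show x ∈ f ⁻¹ᵁ V.1 from hxV) (f ⁻¹ᵁ V.1).isOpen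
  refine ⟨⟨U, hU⟩, hxU, f.appLE V.1 U hUV g, ?_⟩
  rw [IdealComap.ideal_comap J f ⟨U, hU⟩ V hUV, hg, Ideal.map_span, Set.image_singleton]

lemma isLocPrincipal_mul {I J : X.IdealSheafData} (hI : IsLocPrincipal I) (hJ : IsLocPrincipal J) :
    IsLocPrincipal (I * J) := by
  intro x
  obtain ⟨U, hxU, a, ha⟩ := hI x
  obtain ⟨V, hxV, b, hb⟩ := hJ x
  obtain ⟨_, ⟨W, hW, rfl⟩, hxW, hWUV⟩ := X.isBasis_affineOpens.exists_subset_of_mem_open
    (show x ∈ U.1 ⊓ V.1 from ⟨hxU, hxV⟩) (U.1 ⊓ V.1).isOpen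
  refine ⟨⟨W, hW⟩, hxW, (X.presheaf.map (homOfLE (show W ≤ U.1 from fun y hy => (hWUV hy).1)).op).hom a *
    (X.presheaf.map (homOfLE (show W ≤ V.1 from fun y hy => (hWUV hy).2)).op).hom b, ?_⟩
  rw [Scheme.IdealSheafData.ideal_mul, Pi.mul_apply,
    ideal_of_le (V := ⟨W, hW⟩) (fun y hy => (hWUV hy).1) ha,
    ideal_of_le (V := ⟨W, hW⟩) (fun y hy => (hWUV hy).2) hb, Ideal.span_singleton_mul_span_singleton]
  rfl

lemma mem_interior {J : X.IdealSheafData} {x : X} : x ∈ ModPair.interior J ↔ x ∉ J.support := Iff.rfl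

lemma preimage_interior (J : Y.IdealSheafData) (f : X ⟶ Y) :
    f ⁻¹ᵁ ModPair.interior J = ModPair.interior (J.comap f) := by
  ext x
  show f x ∉ (J.support : Set Y) ↔ x ∉ ((J.comap f).support : Set X)
  rw [Scheme.IdealSheafData.support_comap]
  rfl

lemma interior_mono {I J : X.IdealSheafData} (h : I ≤ J) : ModPair.interior I ≤ ModPair.interior J :=
  fun _ hx hJ => hx (Scheme.IdealSheafData.support_antitone h hJ)

lemma interior_mul (I J : X.IdealSheafData) :
    ModPair.interior (I * J) = ModPair.interior I ⊓ ModPair.interior J := by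
  ext x
  show x ∉ (I * J).support ↔ x ∉ I.support ∧ x ∉ J.support
  rw [Scheme.IdealSheafData.support_mul]
  exact not_or

lemma interior_inter {J : X.IdealSheafData} {U : X.affineOpens} {g : Γ(X, U.1)}
    (hg : J.ideal U = Ideal.span {g}) : ModPair.interior J ⊓ U.1 = X.basicOpen g := by
  ext x
  constructor
  · rintro ⟨hx, hxU⟩
    by_contra hn
    refine hx ((Scheme.IdealSheafData.mem_support_iff_of_mem hxU).mpr ?_)
    rw [hg, Scheme.zeroLocus_span, Scheme.zeroLocus_singleton]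
    exact hn
  · intro hx
    have hxU : x ∈ U.1 := X.basicOpen_le g hx
    refine ⟨fun hs => ?_, hxU⟩
    rw [SetLike.mem_coe, Scheme.IdealSheafData.mem_support_iff_of_mem hxU, hg, Scheme.zeroLocus_span,
      Scheme.zeroLocus_singleton] at hs
    exact hs hx

lemma isAffineHom_interior_ι {J : X.IdealSheafData} (hJ : IsLocPrincipal J) :
    IsAffineHom (ModPair.interior J).ι := by
  refine isAffineHom_of_forall_exists_isAffineOpen _ fun x => ?_
  obtain ⟨U, hU, g, hg⟩ := hJ x
  refine ⟨U.1, hU, U.2, ?_⟩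
  rw [← Scheme.Hom.isAffineOpen_iff_of_isOpenImmersion (ModPair.interior J).ι,
    Scheme.Hom.image_preimage_eq_opensRange_inf, Scheme.Opens.opensRange_ι, interior_inter hg]
  exact U.2.basicOpen _

lemma quasiCompact_interior_ι {J : X.IdealSheafData} (hJ : IsLocPrincipal J) :
    QuasiCompact (ModPair.interior J).ι := by
  have := isAffineHom_interior_ι hJ
  infer_instance

/-- The kernel of restriction to an open subscheme. -/
lemma app_ι_eq_zero_iff (O : X.Opens) (U : X.Opens) (s : Γ(X, U)) :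
    (O.ι.app U).hom s = 0 ↔ (X.presheaf.map (homOfLE (inf_le_right : O ⊓ U ≤ U)).op).hom s = 0 := by
  have h1 : O.ι ''ᵁ O.ι ⁻¹ᵁ U ≤ U := Scheme.Hom.image_preimage_eq_opensRange_inf O.ι U ▸ inf_le_right
  have h2 : O ⊓ U = O.ι ''ᵁ O.ι ⁻¹ᵁ U := by
    rw [Scheme.Hom.image_preimage_eq_opensRange_inf, Scheme.Opens.opensRange_ι]
  rw [Scheme.Opens.ι_app]
  have h3 := (ConcreteCategory.bijective_of_isIso (X.presheaf.map (eqToHom h2).op)).1
  rw [show (homOfLE (inf_le_right : O ⊓ U ≤ U)).op = (homOfLE h1).op ≫ (eqToHom h2).op from rfl,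
    Functor.map_comp, CommRingCat.hom_comp, RingHom.comp_apply]
  exact ⟨fun h => by rw [show (X.presheaf.map (homOfLE h1).op).hom s = 0 from h, map_zero],
    fun h => h3 (h.trans (map_zero _).symm)⟩

lemma nzd_basicOpen {U : X.affineOpens} {g : Γ(X, U.1)} (hg : g ∈ Γ(X, U.1)⁰) (r : Γ(X, U.1)) :
    (X.presheaf.map (homOfLE (X.basicOpen_le r)).op).hom g ∈ Γ(X, X.basicOpen r)⁰ := by
  have := U.2.isLocalization_basicOpen r
  exact IsLocalization.map_nonZeroDivisors_le (Submonoid.powers r) Γ(X, X.basicOpen r) ⟨g, hg, rfl⟩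

lemma ec_of_le {I J : X.IdealSheafData} (hI : BlowUp.IsEffCartierIdeal I) (hJ : IsLocPrincipal J)
    (h : I ≤ J) : BlowUp.IsEffCartierIdeal J := by
  intro x
  obtain ⟨U, hxU, a, ha, hIU⟩ := hI x
  obtain ⟨V, hxV, b, hJV⟩ := hJ x
  obtain ⟨r, r', e, hxr⟩ := exists_basicOpen_le_affine_inter U.2 V.2 x ⟨hxU, hxV⟩
  refine ⟨X.affineBasicOpen r, hxr,
    (X.presheaf.map (homOfLE (e.trans_le (X.basicOpen_le r'))).op).hom b, ?_,
    ideal_of_le (V := X.affineBasicOpen r) (e.trans_le (X.basicOpen_le r')) hJV⟩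
  have h1 := (h (X.affineBasicOpen r))
  rw [ideal_of_le (V := X.affineBasicOpen r) (X.basicOpen_le r) hIU,
    ideal_of_le (V := X.affineBasicOpen r) (e.trans_le (X.basicOpen_le r')) hJV,
    Ideal.span_singleton_le_span_singleton] at h1
  obtain ⟨c, hc⟩ := h1
  have h2 := nzd_basicOpen ha r
  erw [hc] at h2
  exact (mul_mem_nonZeroDivisors.mp h2).1

lemma ec_comap_of_isAmbient {I : X.IdealSheafData} {J : Y.IdealSheafData} (hI : BlowUp.IsEffCartierIdeal I)
    (hJ : IsLocPrincipal J) (f : X ⟶ Y) (hf : ModPair.IsAmbient I J f) :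
    BlowUp.IsEffCartierIdeal (J.comap f) :=
  ec_of_le hI (isLocPrincipal_comap hJ f) hf

/-- A locally principal ideal with scheme-theoretically dense interior is effective Cartier. -/
lemma ec_of_dense {J : X.IdealSheafData} (hJ : IsLocPrincipal J)
    [hd : IsSchemeTheoreticallyDominant (ModPair.interior J).ι] : BlowUp.IsEffCartierIdeal J := by
  have := quasiCompact_interior_ι hJ
  intro x
  obtain ⟨U, hxU, g, hg⟩ := hJ x
  refine ⟨U, hxU, g, mem_nonZeroDivisors_iff_right.mpr fun s hs => ?_, hg⟩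
  apply (ModPair.interior J).ι.app_injective U.1
  rw [map_zero, app_ι_eq_zero_iff]
  have hle : ModPair.interior J ⊓ U.1 ≤ X.basicOpen g := (interior_inter hg).le
  have := U.2.isLocalization_basicOpen g
  have h0 : (X.presheaf.map (homOfLE (X.basicOpen_le g)).op).hom s = 0 := by
    have hu : IsUnit ((X.presheaf.map (homOfLE (X.basicOpen_le g)).op).hom g) :=
      IsLocalization.map_units Γ(X, X.basicOpen g) (⟨g, Submonoid.mem_powers g⟩ : Submonoid.powers g)
    exact hu.mul_left_eq_zero.mp (by rw [← map_mul, hs, map_zero])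
  rw [show (homOfLE (inf_le_right : ModPair.interior J ⊓ U.1 ≤ U.1)).op =
      (homOfLE (X.basicOpen_le g)).op ≫ (homOfLE hle).op from rfl, Functor.map_comp, CommRingCat.hom_comp,
    RingHom.comp_apply, h0, map_zero]

/-- The interior of an effective Cartier divisor is scheme-theoretically dense. -/
lemma dense_of_ec {J : X.IdealSheafData} (hJ : BlowUp.IsEffCartierIdeal J) :
    IsSchemeTheoreticallyDominant (ModPair.interior J).ι := by
  have := quasiCompact_interior_ι (isLocPrincipal_of_ec hJ)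
  choose U hU g hg hgJ using hJ
  refine ⟨Scheme.IdealSheafData.ext_of_iSup_eq_top U
    (eq_top_iff.mpr fun x _ => Opens.mem_iSup.mpr ⟨x, hU x⟩) fun x => ?_⟩
  rw [Scheme.Hom.ker_apply, Scheme.IdealSheafData.ideal_bot, Pi.bot_apply, eq_bot_iff]
  intro s hs
  rw [RingHom.mem_ker, app_ι_eq_zero_iff] at hs
  have := (U x).2.isLocalization_basicOpen (g x)
  have h0 : (X.presheaf.map (homOfLE (X.basicOpen_le (g x))).op).hom s = 0 := by
    have hle : X.basicOpen (g x) ≤ ModPair.interior J ⊓ (U x).1 := (interior_inter (hgJ x)).ge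
    rw [show (homOfLE (X.basicOpen_le (g x))).op =
      (homOfLE (inf_le_right : ModPair.interior J ⊓ (U x).1 ≤ (U x).1)).op ≫ (homOfLE hle).op from rfl,
      Functor.map_comp, CommRingCat.hom_comp, RingHom.comp_apply, hs, map_zero]
  rw [Submodule.mem_bot]
  exact IsLocalization.injective Γ(X, X.basicOpen (g x))
    (Submonoid.powers_le.mpr (hg x)) (h0.trans (map_zero _).symm)

end Groth.Agent.ModPairBasic
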