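import Groth.Agent.ModPairBasic.Core

/-!
# Scheme-theoretic images of immersions with quasi-compact open part
-/

universe u

open CategoryTheory CategoryTheory.Limits AlgebraicGeometry TopologicalSpace

set_option linter.unusedSectionVars false

namespace Groth.Agent.ModPairBasic

variable {P V W : Scheme.{u}}

lemma ker_toImage (f : V ⟶ P) [QuasiCompact f] : f.toImage.ker = ⊥ := by
  refine Scheme.IdealSheafData.ext_of_iSup_eq_top
    (fun U : P.affineOpens => ⟨f.imageι ⁻¹ᵁ U.1, U.2.preimage f.imageι⟩)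
    (eq_top_iff.mpr fun x _ => ?_) fun U => ?_
  · obtain ⟨_, ⟨U, hU, rfl⟩, hx, -⟩ := P.isBasis_affineOpens.exists_subset_of_mem_open (Set.mem_univ (f.imageι x))
      isOpen_univ
    exact Opens.mem_iSup.mpr ⟨⟨_, hU⟩, hx⟩
  · rw [Scheme.Hom.ker_apply, Scheme.IdealSheafData.ideal_bot, Pi.bot_apply, ← RingHom.injective_iff_ker_eq_bot]
    exact f.toImage_app_injective U

lemma ker_eq_bot_of_comp_isOpenImmersion (h : V ⟶ W) (j : W ⟶ P) [IsOpenImmersion j] [QuasiCompact h]
    [QuasiCompact (h ≫ j)] (H : (h ≫ j).ker = ⊥) : h.ker = ⊥ := by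
  ext U : 2
  have hsq : IsPullback h (𝟙 V) j (h ≫ j) :=
    IsOpenImmersion.isPullback _ _ _ _ (by simp) (by ext v; simp)
  rw [Scheme.ker_ideal_of_isPullback_of_isOpenImmersion (h ≫ j) h (𝟙 V) j hsq U, H]
  simp only [Scheme.IdealSheafData.ideal_bot, Pi.bot_apply]
  exact Ideal.comap_bot_of_injective _ (ConcreteCategory.bijective_of_isIso (j.appIso U.1).inv).1

/-- The open part of the scheme-theoretic image. -/
theorem image_open (f : V ⟶ P) [QuasiCompact f] (O : P.Opens) (h : V ⟶ (O : Scheme.{u})) [IsClosedImmersion h]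
    (hf : h ≫ O.ι = f) :
    ∃ u : V ⟶ ((f.imageι ⁻¹ᵁ O : f.image.Opens) : Scheme.{u}), IsIso u ∧ u ≫ (f.imageι ⁻¹ᵁ O).ι = f.toImage ∧
      u ≫ (f.imageι ∣_ O) = h ∧ IsSchemeTheoreticallyDominant (f.imageι ⁻¹ᵁ O).ι := by
  have hsub : Set.range f.toImage ⊆ Set.range (f.imageι ⁻¹ᵁ O).ι := by
    rw [Scheme.Opens.range_ι]
    rintro _ ⟨v, rfl⟩
    show f.imageι (f.toImage v) ∈ O
    rw [← Scheme.Hom.comp_apply, Scheme.Hom.toImage_imageι, ← hf]
    exact (h v).2
  let u := IsOpenImmersion.lift (f.imageι ⁻¹ᵁ O).ι f.toImage hsub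
  have h1 : u ≫ (f.imageι ⁻¹ᵁ O).ι = f.toImage := IsOpenImmersion.lift_fac _ _ _
  have h2 : u ≫ (f.imageι ∣_ O) = h := by
    rw [← cancel_mono O.ι, Category.assoc, morphismRestrict_ι, reassoc_of% h1,
      Scheme.Hom.toImage_imageι, hf]
  have : IsClosedImmersion (u ≫ (f.imageι ∣_ O)) := h2 ▸ inferInstance
  have : IsClosedImmersion u := IsClosedImmersion.of_comp u (f.imageι ∣_ O)
  have : QuasiCompact (u ≫ (f.imageι ⁻¹ᵁ O).ι) := h1 ▸ inferInstance
  have hu : u.ker = ⊥ := ker_eq_bot_of_comp_isOpenImmersion u _ (by rw [h1]; exact ker_toImage f)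
  have : IsIso u := IsClosedImmersion.isIso_iff_ker_eq_bot.mpr hu
  refine ⟨u, inferInstance, h1, h2, ⟨?_⟩⟩
  rw [← Scheme.Hom.ker_comp_of_isIso u, h1]
  exact ker_toImage f

theorem dense_image_open (O : P.Opens) [QuasiCompact O.ι] :
    IsSchemeTheoreticallyDominant (O.ι.imageι ⁻¹ᵁ O).ι := by
  obtain ⟨_, -, -, -, h⟩ := image_open O.ι O (𝟙 _) (Category.id_comp _)
  exact h

theorem isIso_imageι_restrict (O : P.Opens) [QuasiCompact O.ι] : IsIso (O.ι.imageι ∣_ O) := by
  obtain ⟨u, hu, -, h2, -⟩ := image_open O.ι O (𝟙 _) (Category.id_comp _)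
  exact IsIso.of_isIso_fac_left h2

/-- A morphism out of a scheme with dense open mapped into `O` factors through the image of `O`. -/
theorem exists_lift_image (O : P.Opens) (D : W.Opens) [IsSchemeTheoreticallyDominant D.ι] (c : W ⟶ P)
    (hc : ∀ w ∈ D, c w ∈ O) : ∃ c' : W ⟶ O.ι.image, c' ≫ O.ι.imageι = c := by
  have hker : O.ι.ker ≤ c.ker := by
    have hsub : Set.range (D.ι ≫ c) ⊆ Set.range O.ι := by
      rw [Scheme.Opens.range_ι]; rintro _ ⟨w, rfl⟩; exact hc _ w.2
    have h1 := Scheme.Hom.le_ker_comp (IsOpenImmersion.lift O.ι (D.ι ≫ c) hsub) O.ι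
    rw [IsOpenImmersion.lift_fac] at h1
    rwa [Scheme.Hom.ker_comp, D.ι.ker_eq_bot, Scheme.IdealSheafData.map_bot] at h1
  exact ⟨IsClosedImmersion.lift O.ι.imageι c (by rw [Scheme.IdealSheafData.ker_subschemeι]; exact hker),
    IsClosedImmersion.lift_fac _ _ _⟩

/-- Agreement on a dense open gives equality for a separated target. -/
theorem ext_of_dense {Q : Scheme.{u}} (s : P ⟶ Q) [IsSeparated s] (D : W.Opens)
    [IsSchemeTheoreticallyDominant D.ι] (f g : W ⟶ P) (hs : f ≫ s = g ≫ s) (hD : D.ι ≫ f = D.ι ≫ g) :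
    f = g := by
  let c := pullback.lift (f := s) (g := s) f g hs
  let e := pullback.snd (pullback.diagonal s) c
  have hmem : (D.ι ≫ f) ≫ pullback.diagonal s = D.ι ≫ c := by
    apply pullback.hom_ext
    · rw [Category.assoc, pullback.diagonal_fst, Category.comp_id, Category.assoc]; erw [pullback.lift_fst]
    · rw [Category.assoc, pullback.diagonal_snd, Category.comp_id, Category.assoc, hD]; erw [pullback.lift_snd]
  let l : (D : Scheme.{u}) ⟶ pullback (pullback.diagonal s) c := pullback.lift (D.ι ≫ f) D.ι hmem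
  have hle : e.ker ≤ ⊥ := by
    have := Scheme.Hom.le_ker_comp l e
    rwa [pullback.lift_snd, D.ι.ker_eq_bot] at this
  have : IsIso e := IsClosedImmersion.isIso_iff_ker_eq_bot.mpr (le_bot_iff.mp hle)
  have h := pullback.condition (f := pullback.diagonal s) (g := c)
  have h1 := congrArg (· ≫ pullback.fst s s) h
  have h2 := congrArg (· ≫ pullback.snd s s) h
  simp only [Category.assoc, pullback.diagonal_fst, pullback.diagonal_snd, Category.comp_id, c,
    pullback.lift_fst, pullback.lift_snd] at h1 h2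
  exact (cancel_epi e).mp (h1.symm.trans h2)

end Groth.Agent.ModPairBasic
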