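import Groth.Agent.ModPairBasic.Image

/-!
# Modulus pairs: products in the minimal case and admissible blow-ups
-/

universe u

open CategoryTheory CategoryTheory.Limits AlgebraicGeometry TopologicalSpace

set_option linter.unusedSectionVars false

namespace Groth.Agent.ModPairBasic

variable {S T X Y Z : Scheme.{u}}

lemma ec_comap_image {O : X.Opens} {K : X.IdealSheafData} (hK : IsLocPrincipal K)
    (hO : O = ModPair.interior K) : BlowUp.IsEffCartierIdeal (K.comap O.ι.imageι) := by
  subst hO
  have := quasiCompact_interior_ι hK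
  have h := dense_image_open (ModPair.interior K)
  rw [preimage_interior K] at h
  exact ec_of_dense (isLocPrincipal_comap hK _)

lemma dense_preimage_image {O : X.Opens} [QuasiCompact O.ι] :
    IsSchemeTheoreticallyDominant (O.ι.imageι ⁻¹ᵁ O).ι := dense_image_open O

lemma prodInterior_eq (f : X ⟶ S) (g : T ⟶ S) (I : X.IdealSheafData) (J : T.IdealSheafData) :
    ModPair.prodInterior f g I J =
      ModPair.interior (I.comap (pullback.fst f g) * J.comap (pullback.snd f g)) := by
  rw [ModPair.prodInterior, interior_mul, preimage_interior, preimage_interior]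

lemma quasiCompact_prodInterior_ι (f : X ⟶ S) (g : T ⟶ S) {I : X.IdealSheafData} {J : T.IdealSheafData}
    (hI : IsLocPrincipal I) (hJ : IsLocPrincipal J) : QuasiCompact (ModPair.prodInterior f g I J).ι := by
  rw [prodInterior_eq]
  exact quasiCompact_interior_ι (isLocPrincipal_mul (isLocPrincipal_comap hI _) (isLocPrincipal_comap hJ _))

lemma preimage_interior_le {I : X.IdealSheafData} {J : S.IdealSheafData} {p : X ⟶ S}
    (hp : ModPair.IsAmbient I J p) : ModPair.interior I ≤ p ⁻¹ᵁ ModPair.interior J := by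
  rw [preimage_interior]; exact interior_mono hp

lemma prodInterior_eq_fst {IS : S.IdealSheafData} {IT : T.IdealSheafData} {IX : X.IdealSheafData}
    {p : X ⟶ S} (hp : ModPair.IsAmbient IX IS p) {f : T ⟶ S} (hf : ModPair.IsMinimal IT IS f) :
    ModPair.prodInterior p f IX IT = pullback.fst p f ⁻¹ᵁ ModPair.interior IX := by
  refine inf_eq_left.mpr fun z hz => ?_
  have h1 : p (pullback.fst p f z) ∈ ModPair.interior IS := preimage_interior_le hp hz
  rw [← Scheme.Hom.comp_apply, pullback.condition, Scheme.Hom.comp_apply] at h1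
  rw [hf, ← preimage_interior]
  exact h1

lemma prodInterior_eq_snd {IS : S.IdealSheafData} {IT : T.IdealSheafData} {IX : X.IdealSheafData}
    {s : X ⟶ S} (hs : ModPair.IsMinimal IX IS s) {g : T ⟶ S} (hg : ModPair.IsAmbient IT IS g) :
    ModPair.prodInterior s g IX IT = pullback.snd s g ⁻¹ᵁ ModPair.interior IT := by
  refine inf_eq_right.mpr fun z hz => ?_
  have h1 : g (pullback.snd s g z) ∈ ModPair.interior IS := preimage_interior_le hg hz
  rw [← Scheme.Hom.comp_apply, ← pullback.condition, Scheme.Hom.comp_apply] at h1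
  rw [hs, ← preimage_interior]
  exact h1

lemma isIso_of_range {f : X ⟶ S} (g : T ⟶ S) {U : T.Opens} {V : S.Opens} (hUV : U ≤ g ⁻¹ᵁ V)
    [IsIso (f ∣_ V)] : IsIso (pullback.snd f g ∣_ U) := by
  have hsub : Set.range (U.ι ≫ g) ⊆ Set.range V.ι := by
    rw [Scheme.Opens.range_ι]; rintro _ ⟨t, rfl⟩; exact hUV t.2
  let k := IsOpenImmersion.lift V.ι (U.ι ≫ g) hsub
  have hk : k ≫ V.ι = U.ι ≫ g := IsOpenImmersion.lift_fac _ _ _
  have B : IsPullback ((pullback.snd f g ⁻¹ᵁ U).ι ≫ pullback.fst f g) (pullback.snd f g ∣_ U) f (U.ι ≫ g) :=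
    ((isPullback_morphismRestrict (pullback.snd f g) U).flip).paste_horiz (IsPullback.of_hasPullback f g)
  have hsub' : Set.range ((pullback.snd f g ⁻¹ᵁ U).ι ≫ pullback.fst f g) ⊆ Set.range (f ⁻¹ᵁ V).ι := by
    rw [Scheme.Opens.range_ι]
    rintro _ ⟨z, rfl⟩
    show f (pullback.fst f g z.1) ∈ V
    rw [← Scheme.Hom.comp_apply, pullback.condition, Scheme.Hom.comp_apply]
    exact hUV z.2
  let l := IsOpenImmersion.lift (f ⁻¹ᵁ V).ι _ hsub'
  have hl : l ≫ (f ⁻¹ᵁ V).ι = (pullback.snd f g ⁻¹ᵁ U).ι ≫ pullback.fst f g :=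
    IsOpenImmersion.lift_fac _ _ _
  have hw : l ≫ (f ∣_ V) = (pullback.snd f g ∣_ U) ≫ k := by
    rw [← cancel_mono V.ι, Category.assoc, morphismRestrict_ι, reassoc_of% hl, Category.assoc, hk]
    exact B.w
  have B' : IsPullback (l ≫ (f ⁻¹ᵁ V).ι) (pullback.snd f g ∣_ U) f (k ≫ V.ι) := by rw [hl, hk]; exact B
  have A := IsPullback.of_right B' hw (isPullback_morphismRestrict f V).flip
  exact MorphismProperty.of_isPullback (P := MorphismProperty.isomorphisms Scheme.{u}) A
    (show IsIso (f ∣_ V) from inferInstance)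

/-- Base change of an admissible blow-up along an ambient morphism. -/
theorem admBlowup_mprod {IS : S.IdealSheafData} {IT : T.IdealSheafData} {IX : X.IdealSheafData}
    (hT : BlowUp.IsEffCartierIdeal IT) (hX : IsLocPrincipal IX) {g : T ⟶ S}
    (hg : ModPair.IsAmbient IT IS g) {s : X ⟶ S} (hs : ModPair.IsAdmBlowup IX IS s) :
    BlowUp.IsEffCartierIdeal (IT.comap (ModPair.mprodι s g IX IT ≫ pullback.snd s g)) ∧
      ModPair.IsAdmBlowup (IT.comap (ModPair.mprodι s g IX IT ≫ pullback.snd s g)) IT
        (ModPair.mprodι s g IX IT ≫ pullback.snd s g) ∧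
      ModPair.IsAmbient (IT.comap (ModPair.mprodι s g IX IT ≫ pullback.snd s g)) IX
        (ModPair.mprodι s g IX IT ≫ pullback.fst s g) := by
  obtain ⟨hmin, hprop, hiso⟩ := hs
  have hO := prodInterior_eq_snd hmin hg
  have hTl := isLocPrincipal_of_ec hT
  refine ⟨?_, ⟨rfl, inferInstance, ?_⟩, ?_⟩
  · rw [Scheme.IdealSheafData.comap_comp]
    exact ec_comap_image (isLocPrincipal_comap hTl _) (by rw [hO, preimage_interior])
  · have := quasiCompact_prodInterior_ι s g hX hTl
    have h1 := isIso_imageι_restrict (ModPair.prodInterior s g IX IT)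
    rw [morphismRestrict_comp]
    have h2 : IsIso (pullback.snd s g ∣_ ModPair.interior IT) :=
      isIso_of_range g (preimage_interior_le hg)
    have h3 : IsIso (ModPair.mprodι s g IX IT ∣_ (pullback.snd s g ⁻¹ᵁ ModPair.interior IT)) := by
      rw [← hO]; exact h1
    exact @IsIso.comp_isIso _ _ _ _ _ _ _ h3 h2
  · show _ ≤ _
    rw [hmin, ← Scheme.IdealSheafData.comap_comp, Category.assoc, pullback.condition, ← Category.assoc,
      Scheme.IdealSheafData.comap_comp _ _ g]
    exact Scheme.IdealSheafData.comap_mono _ hg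

/-- The universal property of the product in the minimal case. -/
theorem mprod_universal {IS : S.IdealSheafData} {IT : T.IdealSheafData} {IX : X.IdealSheafData}
    (hT : IsLocPrincipal IT) (hX : BlowUp.IsEffCartierIdeal IX) {p : X ⟶ S}
    (hp : ModPair.IsAmbient IX IS p) {f : T ⟶ S} (hf : ModPair.IsMinimal IT IS f) :
    BlowUp.IsEffCartierIdeal (IX.comap (ModPair.mprodι p f IX IT ≫ pullback.fst p f)) ∧
      ModPair.IsAmbient (IX.comap (ModPair.mprodι p f IX IT ≫ pullback.fst p f)) IT
        (ModPair.mprodι p f IX IT ≫ pullback.snd p f) ∧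
      ∀ (W : Scheme.{u}) (IW : W.IdealSheafData), BlowUp.IsEffCartierIdeal IW →
        ∀ (a : W ⟶ T) (b : W ⟶ X), ModPair.IsAmbient IW IT a → ModPair.IsAmbient IW IX b →
          a ≫ f = b ≫ p →
          ∃! c : W ⟶ ModPair.mprod p f IX IT,
            c ≫ ModPair.mprodι p f IX IT ≫ pullback.snd p f = a ∧
              c ≫ ModPair.mprodι p f IX IT ≫ pullback.fst p f = b ∧
              ModPair.IsAmbient IW (IX.comap (ModPair.mprodι p f IX IT ≫ pullback.fst p f)) c := by
  have hO := prodInterior_eq_fst hp hf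
  refine ⟨?_, ?_, fun W IW hW a b ha hb hab => ?_⟩
  · rw [Scheme.IdealSheafData.comap_comp]
    exact ec_comap_image (isLocPrincipal_comap (isLocPrincipal_of_ec hX) _) (by rw [hO, preimage_interior])
  · show _ ≤ _
    rw [hf, ← Scheme.IdealSheafData.comap_comp, Category.assoc, ← pullback.condition, ← Category.assoc,
      Scheme.IdealSheafData.comap_comp _ _ p]
    exact Scheme.IdealSheafData.comap_mono _ hp
  · have := dense_of_ec hW
    obtain ⟨c, hc⟩ := exists_lift_image (ModPair.prodInterior p f IX IT) (ModPair.interior IW)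
      (pullback.lift b a hab.symm : W ⟶ pullback p f) fun w hw => by
        rw [hO]
        show pullback.fst p f (pullback.lift b a hab.symm w) ∈ ModPair.interior IX
        rw [← Scheme.Hom.comp_apply, pullback.lift_fst]
        exact preimage_interior_le hb hw
    have h1 : c ≫ ModPair.mprodι p f IX IT ≫ pullback.fst p f = b := by
      rw [← Category.assoc, hc, pullback.lift_fst]
    have h2 : c ≫ ModPair.mprodι p f IX IT ≫ pullback.snd p f = a := by
      rw [← Category.assoc, hc, pullback.lift_snd]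
    refine ⟨c, ⟨h2, h1, ?_⟩, fun d hd => ?_⟩
    · show _ ≤ _
      rw [← Scheme.IdealSheafData.comap_comp, h1]
      exact hb
    · rw [← cancel_mono (ModPair.mprodι p f IX IT)]
      apply pullback.hom_ext
      · rw [Category.assoc, Category.assoc, hd.2.1, h1]
      · rw [Category.assoc, Category.assoc, hd.1, h2]

/-- The flat minimal case. -/
theorem mprod_flat {IS : S.IdealSheafData} {IT : T.IdealSheafData} {IX : X.IdealSheafData}
    (hT : IsLocPrincipal IT) (hX : BlowUp.IsEffCartierIdeal IX) {p : X ⟶ S}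
    (hp : ModPair.IsAmbient IX IS p) {f : T ⟶ S} (hf : ModPair.IsMinimal IT IS f) [Flat f] :
    IsSchemeTheoreticallyDominant (ModPair.prodInterior p f IX IT).ι ∧
      IsIso (ModPair.mprodι p f IX IT) ∧
      BlowUp.IsEffCartierIdeal (IX.comap (pullback.fst p f)) := by
  have hXl := isLocPrincipal_of_ec hX
  have := dense_of_ec hX
  have := quasiCompact_interior_ι hXl
  have hd : IsSchemeTheoreticallyDominant (pullback.fst p f ⁻¹ᵁ ModPair.interior IX).ι :=
    IsSchemeTheoreticallyDominant.of_isPullback (isPullback_morphismRestrict (pullback.fst p f) _)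
      |> fun h => h
  refine ⟨by rw [prodInterior_eq_fst hp hf]; exact hd, ?_, ?_⟩
  · refine (Scheme.isIso_subschemeι_iff_eq_bot _).mpr ?_
    rw [prodInterior_eq_fst hp hf]
    exact hd.ker_eq_bot
  · rw [preimage_interior] at hd
    exact ec_of_dense (isLocPrincipal_comap hXl _)

end Groth.Agent.ModPairBasic
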