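import Groth.Agent.BlowUpLib.Proper
import Groth.Agent.S18738
import Mathlib.CategoryTheory.Limits.Constructions.LimitsOfProductsAndEqualizers

/-!
# The localization of modulus pairs at admissible blow-ups
-/

universe u v w v' w'

open CategoryTheory CategoryTheory.Limits AlgebraicGeometry TopologicalSpace

namespace Groth.Agent.ModPairBasic

section cat

variable {C : Type w} [Category.{v} C] {D : Type w'} [Category.{v'} D] (W : MorphismProperty C)
  [W.HasRightCalculusOfFractions] (L : C ⥤ D) [L.IsLocalization W]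

/-- Two morphisms in the localization with the same source have a common denominator. -/
lemma exists_common_denom {A B₁ B₂ : C} (α : L.obj A ⟶ L.obj B₁) (β : L.obj A ⟶ L.obj B₂) :
    ∃ (A' : C) (u : A' ⟶ A) (_ : W u) (a : A' ⟶ B₁) (b : A' ⟶ B₂), L.map u ≫ α = L.map a ∧ L.map u ≫ β = L.map b := by
  obtain ⟨φ, rfl⟩ := Localization.exists_rightFraction L W α
  obtain ⟨χ, rfl⟩ := Localization.exists_rightFraction L W β
  obtain ⟨ψ, hψ⟩ := (MorphismProperty.LeftFraction.mk (W := W) φ.s χ.s χ.hs).exists_rightFraction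
  refine ⟨_, ψ.s ≫ φ.s, W.comp_mem _ _ ψ.hs φ.hs, ψ.s ≫ φ.f, ψ.f ≫ χ.f, ?_, ?_⟩
  · rw [L.map_comp, Category.assoc, MorphismProperty.RightFraction.map_s_comp_map, L.map_comp]
  · rw [hψ, L.map_comp, Category.assoc, MorphismProperty.RightFraction.map_s_comp_map, L.map_comp]

/-- A criterion for the image of a square to be a pullback in the localization. -/
theorem isPullback_map_of_fractions {P T X Y : C} {p : Y ⟶ T} {q : Y ⟶ X} {g : T ⟶ P} {f : X ⟶ P}
    (w : p ≫ g = q ≫ f)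
    (he : ∀ (A : C) (a : A ⟶ T) (b : A ⟶ X), a ≫ g = b ≫ f →
      ∃ (A' : C) (s : A' ⟶ A) (_ : W s) (c : A' ⟶ Y), c ≫ p = s ≫ a ∧ c ≫ q = s ≫ b)
    (hu : ∀ (A : C) (c₁ c₂ : A ⟶ Y), c₁ ≫ p = c₂ ≫ p → c₁ ≫ q = c₂ ≫ q → c₁ = c₂) :
    IsPullback (L.map p) (L.map q) (L.map g) (L.map f) := by
  have : L.EssSurj := Localization.essSurj L W
  have hw : L.map p ≫ L.map g = L.map q ≫ L.map f := by rw [← L.map_comp, ← L.map_comp, w]
  have ex : ∀ s : PullbackCone (L.map g) (L.map f), ∃ l : s.pt ⟶ L.obj Y,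
      l ≫ L.map p = s.fst ∧ l ≫ L.map q = s.snd := by
    intro s
    obtain ⟨A, ⟨e⟩⟩ : ∃ A, Nonempty (L.obj A ≅ s.pt) := ⟨_, ⟨L.objObjPreimageIso s.pt⟩⟩
    obtain ⟨A₁, u, hu', a, b, ha, hb⟩ := exists_common_denom W L (e.hom ≫ s.fst) (e.hom ≫ s.snd)
    have hab : L.map (a ≫ g) = L.map (b ≫ f) := by
      rw [L.map_comp, L.map_comp, ← ha, ← hb]
      simp only [Category.assoc, s.condition]
    obtain ⟨A₂, r, hr, hrab⟩ := (MorphismProperty.map_eq_iff_precomp L W _ _).mp hab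
    obtain ⟨A₃, t, ht, c, hc₁, hc₂⟩ := he A₂ (r ≫ a) (r ≫ b) (by rw [Category.assoc, Category.assoc, hrab])
    have := Localization.inverts L W _ (W.comp_mem _ _ ht (W.comp_mem _ _ hr hu'))
    refine ⟨e.inv ≫ inv (L.map (t ≫ r ≫ u)) ≫ L.map c, ?_, ?_⟩
    · rw [Category.assoc, Category.assoc, ← L.map_comp c p, hc₁, Iso.inv_comp_eq, IsIso.inv_comp_eq]
      simp only [L.map_comp, Category.assoc, ha]
    · rw [Category.assoc, Category.assoc, ← L.map_comp c q, hc₂, Iso.inv_comp_eq, IsIso.inv_comp_eq]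
      simp only [L.map_comp, Category.assoc, hb]
  choose lift hl₁ hl₂ using ex
  refine ⟨⟨hw⟩, ⟨PullbackCone.IsLimit.mk _ lift hl₁ hl₂ fun s m hm₁ hm₂ => ?_⟩⟩
  obtain ⟨A, ⟨e⟩⟩ : ∃ A, Nonempty (L.obj A ≅ s.pt) := ⟨_, ⟨L.objObjPreimageIso s.pt⟩⟩
  obtain ⟨A₁, u, hu', c₁, c₂, hc₁, hc₂⟩ := exists_common_denom W L (e.hom ≫ m) (e.hom ≫ lift s)
  have hp : L.map (c₁ ≫ p) = L.map (c₂ ≫ p) := by
    rw [L.map_comp, L.map_comp, ← hc₁, ← hc₂, Category.assoc, Category.assoc, Category.assoc, Category.assoc,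
      hm₁, hl₁]
  obtain ⟨A₂, r, hr, hrp⟩ := (MorphismProperty.map_eq_iff_precomp L W _ _).mp hp
  have hq : L.map ((r ≫ c₁) ≫ q) = L.map ((r ≫ c₂) ≫ q) := by
    rw [L.map_comp, L.map_comp, L.map_comp, L.map_comp, ← hc₁, ← hc₂]
    simp only [Category.assoc, hm₂, hl₂]
  obtain ⟨A₃, t, ht, htq⟩ := (MorphismProperty.map_eq_iff_precomp L W _ _).mp hq
  have hc : t ≫ r ≫ c₁ = t ≫ r ≫ c₂ := hu _ _ _ (by rw [Category.assoc, Category.assoc, Category.assoc,
    Category.assoc, hrp]) (by simpa [Category.assoc] using htq)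
  have := Localization.inverts L W _ (W.comp_mem _ _ ht (W.comp_mem _ _ hr hu'))
  rw [← cancel_epi e.hom, ← cancel_epi (L.map (t ≫ r ≫ u))]
  simp only [L.map_comp, Category.assoc, hc₁, hc₂]
  rw [← L.map_comp, ← L.map_comp, hc, L.map_comp, L.map_comp]

include W in
/-- The localization has pullbacks as soon as every cospan of the category has a square as above. -/
theorem hasPullback_of_fractions
    (h : ∀ {P T X : C} (g : T ⟶ P) (f : X ⟶ P), ∃ (Y : C) (p : Y ⟶ T) (q : Y ⟶ X),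
      IsPullback (L.map p) (L.map q) (L.map g) (L.map f)) : HasPullbacks D := by
  have : L.EssSurj := Localization.essSurj L W
  have key : ∀ {A P' : D} (α : A ⟶ P') {P : C} (eP : P' ≅ L.obj P),
      ∃ (T : C) (g : T ⟶ P) (eT : A ≅ L.obj T), α ≫ eP.hom = eT.hom ≫ L.map g := by
    intro A P' α P eP
    let eA := L.objObjPreimageIso A
    obtain ⟨φ, hφ⟩ := Localization.exists_rightFraction L W (eA.hom ≫ α ≫ eP.hom)
    have := Localization.inverts L W _ φ.hs
    refine ⟨_, φ.f, eA.symm ≪≫ (asIso (L.map φ.s)).symm, ?_⟩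
    rw [← cancel_epi eA.hom, hφ, MorphismProperty.RightFraction.map]
    simp
  refine @hasPullbacks_of_hasLimit_cospan D _ fun {X Y Z α β} => ?_
  let eP := (L.objObjPreimageIso Z).symm
  obtain ⟨T, g, eT, hg⟩ := key α eP
  obtain ⟨X', f, eX, hf⟩ := key β eP
  obtain ⟨Y', p, q, hpb⟩ := h g f
  have := hpb.of_iso (fst' := L.map p ≫ eT.inv) (snd' := L.map q ≫ eX.inv) (f' := α) (g' := β) (Iso.refl _) eT.symm eX.symm eP.symm
    (by simp) (by simp) (by rw [Iso.symm_hom, Iso.symm_hom, Iso.eq_inv_comp, ← Category.assoc, ← hg, Category.assoc, Iso.hom_inv_id, Category.comp_id])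
    (by rw [Iso.symm_hom, Iso.symm_hom, Iso.eq_inv_comp, ← Category.assoc, ← hf, Category.assoc, Iso.hom_inv_id, Category.comp_id])
  exact this.hasPullback

include W L in
lemma hasTerminal_of_fractions {T : C} (hT : IsTerminal T) : HasTerminal D := by
  have : L.EssSurj := Localization.essSurj L W
  have ex : ∀ A : D, Nonempty (A ⟶ L.obj T) := fun A => ⟨(L.objObjPreimageIso A).inv ≫ L.map (hT.from _)⟩
  refine IsTerminal.hasTerminal (X := L.obj T) (IsTerminal.ofUniqueHom (fun A => (ex A).some) fun A m => ?_)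
  obtain ⟨A₁, u, hu, a, b, ha, hb⟩ := exists_common_denom W L ((L.objObjPreimageIso A).hom ≫ m)
    ((L.objObjPreimageIso A).hom ≫ (ex A).some)
  have := Localization.inverts L W _ hu
  rw [← cancel_epi (L.objObjPreimageIso A).hom, ← cancel_epi (L.map u), ha, hb, hT.hom_ext a b]

end cat

variable {X Y : Scheme.{u}}

lemma le_of_mul_le_mul {A B E : X.IdealSheafData} (hE : BlowUp.IsEffCartierIdeal E) (h : A * E ≤ B * E) : A ≤ B := by
  choose U hU e he hEU using hE
  refine Scheme.IdealSheafData.le_of_iSup_eq_top U (eq_top_iff.mpr fun y _ => Opens.mem_iSup.mpr ⟨y, hU y⟩) fun y => ?_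
  intro k hk
  have h := h (U y)
  rw [Scheme.IdealSheafData.ideal_mul, Pi.mul_apply, Scheme.IdealSheafData.ideal_mul, Pi.mul_apply, hEU y] at h
  obtain ⟨c, hc, hce⟩ := Ideal.mem_mul_span_singleton.mp (h (Ideal.mul_mem_mul hk (Ideal.mem_span_singleton_self _)))
  rwa [← (mul_cancel_right_mem_nonZeroDivisors (he y)).mp hce]

lemma mul_right_cancel_ec {A B E : X.IdealSheafData} (hE : BlowUp.IsEffCartierIdeal E) (h : A * E = B * E) : A = B :=
  le_antisymm (le_of_mul_le_mul hE h.le) (le_of_mul_le_mul hE h.ge)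

lemma fg_ec {I : X.IdealSheafData} (h : BlowUp.IsEffCartierIdeal I) : BlowUp.IsFiniteTypeIdeal I :=
  fun U => fg_of_isLocPrincipal (isLocPrincipal_of_ec h) U

/-- Blowing up a pair in a finite type centre containing the modulus is an admissible blow-up. -/
lemma exists_admBlowup (A : ModPair.Pair.{u}) (Z : A.total.IdealSheafData) (hZ : BlowUp.IsFiniteTypeIdeal Z)
    (hle : A.mod ≤ Z) : ∃ (A' : ModPair.Pair.{u}) (s : A' ⟶ A), ModPair.Pair.admBlowup s ∧
      BlowUp.IsEffCartierIdeal (Z.comap s.hom) := by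
  obtain ⟨Y, π, hπ⟩ := BlowUpLib.exists_isBlowUp Z
  let A' : ModPair.Pair.{u} := ⟨Y, A.mod.comap π, ec_comap_of_isBlowUp hπ A.isEffCartier⟩
  refine ⟨A', ⟨π, le_rfl⟩, ⟨rfl, BlowUpLib.isProper_of_isBlowUp hπ hZ, ?_⟩, hπ.1⟩
  exact BlowUpLib.isIso_restrict hπ _ fun x hx hs => hx (Scheme.IdealSheafData.support_antitone hle hs)

variable {P T X' : ModPair.Pair.{u}} {f : X' ⟶ P} {g : T ⟶ P} {Y' : Scheme.{u}}
  {π : Y' ⟶ ModPair.mprod f.hom g.hom X'.mod T.mod} {K : Y'.IdealSheafData}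

/-- Lifting to the ambient product after an admissible blow-up. -/
theorem exists_lift_ambProd (hY : ModPair.IsAmbProd f.hom g.hom X'.mod T.mod π K)
    (A : ModPair.Pair.{u}) (a : A ⟶ T) (b : A ⟶ X') (hab : a ≫ g = b ≫ f) :
    ∃ (A' : ModPair.Pair.{u}) (s : A' ⟶ A) (_ : ModPair.Pair.admBlowup s) (c : A'.total ⟶ Y'),
      ModPair.IsAmbient A'.mod K c ∧
      c ≫ π ≫ ModPair.mprodι f.hom g.hom X'.mod T.mod ≫ pullback.snd f.hom g.hom = s.hom ≫ a.hom ∧
      c ≫ π ≫ ModPair.mprodι f.hom g.hom X'.mod T.mod ≫ pullback.fst f.hom g.hom = s.hom ≫ b.hom := by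
  obtain ⟨A', s, hs, hsE⟩ := exists_admBlowup A (X'.mod.comap b.hom ⊔ T.mod.comap a.hom)
    (fun U => by
      rw [Scheme.IdealSheafData.ideal_sup, Pi.sup_apply]
      exact Submodule.FG.sup (BlowUpLib.finiteType_comap (fg_ec X'.isEffCartier) _ U)
        (BlowUpLib.finiteType_comap (fg_ec T.isEffCartier) _ U))
    (le_trans b.cond le_sup_left)
  refine ⟨A', s, hs, ?_⟩
  set a' := s.hom ≫ a.hom with ha'
  set b' := s.hom ≫ b.hom with hb'
  have hbf : b' ≫ f.hom = a' ≫ g.hom := by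
    rw [Category.assoc, Category.assoc]
    exact congrArg (s.hom ≫ ·) (congrArg ModPair.Pair.Hom.hom hab).symm
  have := dense_of_ec A'.isEffCartier
  have := quasiCompact_prodInterior_ι f.hom g.hom (isLocPrincipal_of_ec X'.isEffCartier) (isLocPrincipal_of_ec T.isEffCartier)
  obtain ⟨c₀, hc₀⟩ := exists_lift_image (ModPair.prodInterior f.hom g.hom X'.mod T.mod) (ModPair.interior A'.mod)
    (pullback.lift b' a' hbf : A'.total ⟶ pullback f.hom g.hom) fun w hw => by
      constructor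
      · show pullback.fst f.hom g.hom (pullback.lift b' a' hbf w) ∈ ModPair.interior X'.mod
        rw [← Scheme.Hom.comp_apply, pullback.lift_fst]
        exact preimage_interior_le (s ≫ b).cond hw
      · show pullback.snd f.hom g.hom (pullback.lift b' a' hbf w) ∈ ModPair.interior T.mod
        rw [← Scheme.Hom.comp_apply, pullback.lift_snd]
        exact preimage_interior_le (s ≫ a).cond hw
  have hfst : c₀ ≫ ModPair.mprodι f.hom g.hom X'.mod T.mod ≫ pullback.fst f.hom g.hom = b' := by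
    rw [← Category.assoc, hc₀, pullback.lift_fst]
  have hsnd : c₀ ≫ ModPair.mprodι f.hom g.hom X'.mod T.mod ≫ pullback.snd f.hom g.hom = a' := by
    rw [← Category.assoc, hc₀, pullback.lift_snd]
  have hcentre : (ModPair.prodCentre f.hom g.hom X'.mod T.mod).comap c₀ = X'.mod.comap b' ⊔ T.mod.comap a' := by
    rw [ModPair.prodCentre, Scheme.IdealSheafData.comap_sup, ← Scheme.IdealSheafData.comap_comp,
      ← Scheme.IdealSheafData.comap_comp, hfst, hsnd]
  have hE : BlowUp.IsEffCartierIdeal (X'.mod.comap b' ⊔ T.mod.comap a') := by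
    rw [Scheme.IdealSheafData.comap_comp, Scheme.IdealSheafData.comap_comp, ← Scheme.IdealSheafData.comap_sup]
    exact hsE
  obtain ⟨c, hc, -⟩ := hY.1.2 A'.total c₀ (hcentre ▸ hE)
  refine ⟨c, ?_, by rw [reassoc_of% hc]; exact hsnd, by rw [reassoc_of% hc]; exact hfst⟩
  have hA : BlowUp.IsEffCartierIdeal (X'.mod.comap b') :=
    ec_comap_of_isAmbient A'.isEffCartier (isLocPrincipal_of_ec X'.isEffCartier) _ (s ≫ b).cond
  have hB : BlowUp.IsEffCartierIdeal (T.mod.comap a') :=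
    ec_comap_of_isAmbient A'.isEffCartier (isLocPrincipal_of_ec T.isEffCartier) _ (s ≫ a).cond
  obtain ⟨I₁, I₂, -, -, h1, h2, -, hD⟩ := exists_residual hA hB hE
  have hK : K.comap c * (X'.mod.comap b' ⊔ T.mod.comap a') = X'.mod.comap b' * T.mod.comap a' := by
    have := congrArg (fun J => Scheme.IdealSheafData.comap J c) hY.2
    simp only [BlowUpLib.comap_mul, ← Scheme.IdealSheafData.comap_comp] at this
    simp only [reassoc_of% hc, hc, hfst, hsnd, hcentre] at this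
    exact this
  show A'.mod ≤ K.comap c
  have key : I₁ * I₂ * (X'.mod.comap b' ⊔ T.mod.comap a') = K.comap c := by
    refine mul_right_cancel_ec hE ?_
    rw [hK]
    exact (show I₁ * I₂ * _ * _ = (I₁ * _) * (I₂ * _) from by ac_rfl).trans
      (congrArg₂ (· * ·) h1.symm h2.symm)
  exact key ▸ hD A'.mod (s ≫ b).cond (s ≫ a).cond

/-- Morphisms to the ambient product are determined by the projections. -/
theorem ambProd_hom_ext (hY : ModPair.IsAmbProd f.hom g.hom X'.mod T.mod π K) {A : ModPair.Pair.{u}}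
    {c₁ c₂ : A.total ⟶ Y'} (hamb : ModPair.IsAmbient A.mod T.mod
      (c₁ ≫ π ≫ ModPair.mprodι f.hom g.hom X'.mod T.mod ≫ pullback.snd f.hom g.hom))
    (hamb' : ModPair.IsAmbient A.mod X'.mod
      (c₁ ≫ π ≫ ModPair.mprodι f.hom g.hom X'.mod T.mod ≫ pullback.fst f.hom g.hom))
    (h₁ : c₁ ≫ π ≫ ModPair.mprodι f.hom g.hom X'.mod T.mod ≫ pullback.snd f.hom g.hom =
      c₂ ≫ π ≫ ModPair.mprodι f.hom g.hom X'.mod T.mod ≫ pullback.snd f.hom g.hom)
    (h₂ : c₁ ≫ π ≫ ModPair.mprodι f.hom g.hom X'.mod T.mod ≫ pullback.fst f.hom g.hom =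
      c₂ ≫ π ≫ ModPair.mprodι f.hom g.hom X'.mod T.mod ≫ pullback.fst f.hom g.hom) : c₁ = c₂ := by
  have hm : c₁ ≫ π = c₂ ≫ π := by
    rw [← cancel_mono (ModPair.mprodι f.hom g.hom X'.mod T.mod)]
    apply pullback.hom_ext <;> simpa only [Category.assoc]
  have hA := ec_comap_of_isAmbient A.isEffCartier (isLocPrincipal_of_ec X'.isEffCartier) _ hamb'
  have hB := ec_comap_of_isAmbient A.isEffCartier (isLocPrincipal_of_ec T.isEffCartier) _ hamb
  have h := ec_mul hA hB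
  have hK := congrArg (fun J => Scheme.IdealSheafData.comap J c₁) hY.2
  simp only [BlowUpLib.comap_mul, ← Scheme.IdealSheafData.comap_comp] at hK
  rw [← hK] at h
  obtain ⟨m, -, huniq⟩ := hY.1.2 A.total (c₁ ≫ π) (BlowUpLib.ec_of_mul (by rw [mul_comm]; exact h))
  exact (huniq c₁ rfl).trans (huniq c₂ hm.symm).symm

/-- The pullback square in the localization. -/
theorem isPullback_ambProd (hY : ModPair.IsAmbProd f.hom g.hom X'.mod T.mod π K) (hK : BlowUp.IsEffCartierIdeal K)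
    (hX : ModPair.IsAmbient K X'.mod (π ≫ ModPair.mprodι f.hom g.hom X'.mod T.mod ≫ pullback.fst f.hom g.hom))
    (hT : ModPair.IsAmbient K T.mod (π ≫ ModPair.mprodι f.hom g.hom X'.mod T.mod ≫ pullback.snd f.hom g.hom)) :
    IsPullback
      ((ModPair.Pair.admBlowup.{u}).Q.map
        (ModPair.Pair.Hom.mk (P := ModPair.Pair.mk Y' K hK) (Q := T)
          (π ≫ ModPair.mprodι f.hom g.hom X'.mod T.mod ≫ pullback.snd f.hom g.hom) hT))
      ((ModPair.Pair.admBlowup.{u}).Q.map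
        (ModPair.Pair.Hom.mk (P := ModPair.Pair.mk Y' K hK) (Q := X')
          (π ≫ ModPair.mprodι f.hom g.hom X'.mod T.mod ≫ pullback.fst f.hom g.hom) hX))
      ((ModPair.Pair.admBlowup.{u}).Q.map g) ((ModPair.Pair.admBlowup.{u}).Q.map f) := by
  have := S18738.result.{u}
  refine isPullback_map_of_fractions (ModPair.Pair.admBlowup.{u}) _ (ModPair.Pair.Hom.ext ?_) (fun A a b hab => ?_)
    (fun A c₁ c₂ h₁ h₂ => ?_)
  · show (π ≫ _ ≫ _) ≫ g.hom = (π ≫ _ ≫ _) ≫ f.hom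
    simp only [Category.assoc, pullback.condition]
  · obtain ⟨A', s, hs, c, hamb, h₁, h₂⟩ := exists_lift_ambProd hY A a b hab
    exact ⟨A', s, hs, ⟨c, hamb⟩, ModPair.Pair.Hom.ext h₁, ModPair.Pair.Hom.ext h₂⟩
  · let q : ModPair.Pair.mk Y' K hK ⟶ X' := ⟨_, hX⟩
    let p : ModPair.Pair.mk Y' K hK ⟶ T := ⟨_, hT⟩
    exact ModPair.Pair.Hom.ext (ambProd_hom_ext hY (c₁ ≫ p).cond (c₁ ≫ q).cond
      (congrArg ModPair.Pair.Hom.hom h₁) (congrArg ModPair.Pair.Hom.hom h₂))

/-- The terminal modulus pair. -/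
lemma exists_terminal : ∃ T : ModPair.Pair.{u}, Nonempty (IsTerminal T) := by
  let S : Scheme.{u} := Spec (CommRingCat.of (ULift.{u} ℤ))
  let T : ModPair.Pair.{u} := ⟨S, ⊤, BlowUpLib.ec_top⟩
  refine ⟨T, ⟨IsTerminal.ofUniqueHom (fun A => ⟨specULiftZIsTerminal.from A.total, ?_⟩) fun A m =>
    ModPair.Pair.Hom.ext (specULiftZIsTerminal.hom_ext _ _)⟩⟩
  show A.mod ≤ (⊤ : S.IdealSheafData).comap _
  rw [Scheme.IdealSheafData.comap_top]
  exact le_top

end Groth.Agent.ModPairBasic
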