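import Groth.Agent.ModPairBasic.Prod

universe u

open CategoryTheory CategoryTheory.Limits AlgebraicGeometry TopologicalSpace
open scoped nonZeroDivisors

namespace Groth.Agent.ModPairBasic

variable {X : Scheme.{u}}

lemma ec_mul {I J : X.IdealSheafData} (hI : BlowUp.IsEffCartierIdeal I) (hJ : BlowUp.IsEffCartierIdeal J) :
    BlowUp.IsEffCartierIdeal (I * J) := by
  intro x
  obtain ⟨U, hxU, a, ha, hIU⟩ := hI x
  obtain ⟨V, hxV, b, hb, hJV⟩ := hJ x
  obtain ⟨r, r', e, hxr⟩ := exists_basicOpen_le_affine_inter U.2 V.2 x ⟨hxU, hxV⟩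
  refine ⟨X.affineBasicOpen r, hxr, (X.presheaf.map (homOfLE (X.basicOpen_le r)).op).hom a *
    (X.presheaf.map (homOfLE (e.trans_le (X.basicOpen_le r'))).op).hom b, mul_mem (nzd_basicOpen ha r) ?_, ?_⟩
  · have h := nzd_basicOpen hb r'
    have h2 := (MulEquivClass.map_nonZeroDivisors
      (CategoryTheory.Iso.commRingCatIsoToRingEquiv (X.presheaf.mapIso (eqToIso e).op))).le ⟨_, h, rfl⟩
    rw [show (X.presheaf.map (homOfLE (e.trans_le (X.basicOpen_le r'))).op).hom b =
        (X.presheaf.map (eqToHom e).op).hom ((X.presheaf.map (homOfLE (X.basicOpen_le r')).op).hom b) from by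
      rw [show (homOfLE (e.trans_le (X.basicOpen_le r'))).op =
        (homOfLE (X.basicOpen_le r')).op ≫ (eqToHom e).op from rfl, Functor.map_comp]; rfl]
    exact h2
  · rw [Scheme.IdealSheafData.ideal_mul, Pi.mul_apply, ideal_of_le (V := X.affineBasicOpen r) (X.basicOpen_le r) hIU,
      ideal_of_le (V := X.affineBasicOpen r) (e.trans_le (X.basicOpen_le r')) hJV,
      Ideal.span_singleton_mul_span_singleton]
    rfl

end Groth.Agent.ModPairBasic
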