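import Groth.Agent.ModPairBasic.Mul
import Mathlib.RingTheory.Localization.Finiteness

/-!
# Residual ideal sheaves
-/

universe u

open CategoryTheory CategoryTheory.Limits AlgebraicGeometry TopologicalSpace
open scoped nonZeroDivisors

namespace Groth.Agent.ModPairBasic

variable {X : Scheme.{u}}

/-- A locally principal ideal sheaf is finitely generated on every affine open. -/
lemma fg_of_isLocPrincipal {J : X.IdealSheafData} (hJ : IsLocPrincipal J) (U : X.affineOpens) :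
    (J.ideal U).FG := by
  let t : Set Γ(X, U.1) := {r | ∃ g : Γ(X, X.basicOpen r), J.ideal (X.affineBasicOpen r) = Ideal.span {g}}
  have ht : Ideal.span t = ⊤ := by
    rw [← U.2.iSup_basicOpen_eq_self_iff]
    refine le_antisymm (iSup_le fun r => X.basicOpen_le _) fun x hx => ?_
    obtain ⟨V, hxV, g, hg⟩ := hJ x
    obtain ⟨r, hr, hxr⟩ := U.2.exists_basicOpen_le (V := V.1) ⟨x, hxV⟩ hx
    exact Opens.mem_iSup.mpr ⟨⟨r, _, ideal_of_le (V := X.affineBasicOpen r) hr hg⟩, hxr⟩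
  refine Ideal.fg_of_localizationSpan t ht fun ⟨r, g, hg⟩ => ?_
  have := U.2.isLocalization_basicOpen r
  let e := IsLocalization.algEquiv (Submonoid.powers r) Γ(X, X.basicOpen r) (Localization.Away r)
  have h1 : (J.ideal U).map (algebraMap Γ(X, U.1) (Localization.Away r)) =
      ((J.ideal U).map (algebraMap Γ(X, U.1) Γ(X, X.basicOpen r))).map e.toRingHom := by
    rw [Ideal.map_map]
    congr 1
    exact RingHom.ext fun x => (e.commutes x).symm
  rw [h1]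
  refine Ideal.FG.map ?_ _
  show ((J.ideal U).map (X.presheaf.map (homOfLE (X.basicOpen_le r)).op).hom).FG
  rw [J.map_ideal_basicOpen, hg]
  exact ⟨{g}, by rw [Finset.coe_singleton]⟩

/-- `(I : E)`. -/
def colonIdeal {R : Type u} [CommRing R] (I E : Ideal R) : Ideal R where
  carrier := {x | ∀ e ∈ E, x * e ∈ I}
  add_mem' := fun ha hb e he => by rw [add_mul]; exact Ideal.add_mem _ (ha e he) (hb e he)
  zero_mem' := fun e _ => by rw [zero_mul]; exact Ideal.zero_mem _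
  smul_mem' := fun c x hx e he => by rw [smul_eq_mul, mul_assoc]; exact Ideal.mul_mem_left _ _ (hx e he)

lemma mem_colonIdeal {R : Type u} [CommRing R] {I E : Ideal R} {x : R} :
    x ∈ colonIdeal I E ↔ ∀ e ∈ E, x * e ∈ I := Iff.rfl

lemma map_colonIdeal {R S : Type u} [CommRing R] [CommRing S] [Algebra R S] (M : Submonoid R)
    [IsLocalization M S] (I E : Ideal R) (hE : E.FG) :
    (colonIdeal I E).map (algebraMap R S) = colonIdeal (I.map (algebraMap R S)) (E.map (algebraMap R S)) := by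
  apply le_antisymm
  · refine Ideal.map_le_iff_le_comap.mpr fun x hx => ?_
    refine Ideal.mem_comap.mpr (mem_colonIdeal.mpr fun y hy => ?_)
    induction hy using Submodule.span_induction with
    | mem y hy =>
      obtain ⟨e, he, rfl⟩ := hy
      rw [← map_mul]; exact Ideal.mem_map_of_mem _ (hx e he)
    | zero => rw [mul_zero]; exact Ideal.zero_mem _
    | add a b _ _ ha hb => rw [mul_add]; exact Ideal.add_mem _ ha hb
    | smul c a _ ha => rw [smul_eq_mul, mul_left_comm]; exact Ideal.mul_mem_left _ _ ha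
  · intro y hy
    obtain ⟨s, hs⟩ := hE
    obtain ⟨x, m, rfl⟩ := IsLocalization.exists_mk'_eq M y
    rw [IsLocalization.mk'_mem_map_algebraMap_iff M]
    have key : ∀ e ∈ E, ∃ k : M, (k : R) * (x * e) ∈ I := by
      intro e he
      have h1 := hy (algebraMap R S e) (Ideal.mem_map_of_mem _ he)
      rw [mul_comm, IsLocalization.mul_mk'_eq_mk'_of_mul, mul_comm e x,
        IsLocalization.mk'_mem_map_algebraMap_iff M] at h1
      obtain ⟨k, hk, hk'⟩ := h1
      exact ⟨⟨k, hk⟩, hk'⟩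
    classical
    choose! k hk using key
    have hsE : ∀ e ∈ s, e ∈ E := fun e he => hs ▸ Ideal.subset_span he
    refine ⟨_, (∏ e ∈ s, k e : M).2, ?_⟩
    intro e he
    rw [← hs] at he
    induction he using Submodule.span_induction with
    | mem e he =>
      rw [← Finset.prod_erase_mul s k he, Submonoid.coe_mul, mul_assoc, mul_assoc]
      refine Ideal.mul_mem_left _ _ ?_
      exact hk e (hsE e he)
    | zero => rw [mul_zero]; exact Ideal.zero_mem _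
    | add a b _ _ ha hb => rw [mul_add]; exact Ideal.add_mem _ ha hb
    | smul c a _ ha => rw [smul_eq_mul, mul_left_comm]; exact Ideal.mul_mem_left _ _ ha

/-- The residual ideal sheaf `(I : E)` for finitely generated `E`. -/
noncomputable def residual (I E : X.IdealSheafData) (hE : ∀ U : X.affineOpens, (E.ideal U).FG) :
    X.IdealSheafData where
  ideal U := colonIdeal (I.ideal U) (E.ideal U)
  map_ideal_basicOpen U f := by
    have := U.2.isLocalization_basicOpen f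
    rw [← I.map_ideal_basicOpen, ← E.map_ideal_basicOpen]
    exact map_colonIdeal (Submonoid.powers f) _ _ (hE U)

lemma residual_ideal (I E : X.IdealSheafData) (hE : ∀ U : X.affineOpens, (E.ideal U).FG) {U : X.affineOpens}
    {a e : Γ(X, U.1)} (he : e ∈ Γ(X, U.1)⁰) (hI : I.ideal U = Ideal.span {e * a})
    (hEU : E.ideal U = Ideal.span {e}) : (residual I E hE).ideal U = Ideal.span {a} := by
  ext x
  show x ∈ colonIdeal (I.ideal U) (E.ideal U) ↔ _
  rw [mem_colonIdeal, hEU, hI]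
  simp only [Ideal.mem_span_singleton]
  constructor
  · intro h
    obtain ⟨c, hc⟩ := h e dvd_rfl
    exact ⟨c, (mul_cancel_left_mem_nonZeroDivisors he).mp (by rw [← mul_assoc, mul_comm e x]; exact hc)⟩
  · rintro ⟨c, rfl⟩ y ⟨d, rfl⟩
    exact ⟨c * d, by ring⟩

lemma ec_refine {J : X.IdealSheafData} (hJ : BlowUp.IsEffCartierIdeal J) (U : X.affineOpens) {x : X}
    (hx : x ∈ U.1) : ∃ r : Γ(X, U.1), x ∈ X.basicOpen r ∧
      ∃ a : Γ(X, (X.affineBasicOpen r).1), a ∈ Γ(X, (X.affineBasicOpen r).1)⁰ ∧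
        J.ideal (X.affineBasicOpen r) = Ideal.span {a} := by
  obtain ⟨V, hxV, g, hg, hJV⟩ := hJ x
  obtain ⟨r, r', q, hxr⟩ := exists_basicOpen_le_affine_inter U.2 V.2 x ⟨hx, hxV⟩
  refine ⟨r, hxr, (X.presheaf.map (homOfLE (q.trans_le (X.basicOpen_le r'))).op).hom g, ?_,
    ideal_of_le (V := X.affineBasicOpen r) (q.trans_le (X.basicOpen_le r')) hJV⟩
  rw [show (homOfLE (q.trans_le (X.basicOpen_le r'))).op =
    (homOfLE (X.basicOpen_le r')).op ≫ (eqToHom q).op from rfl, Functor.map_comp]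
  exact (MulEquivClass.map_nonZeroDivisors
      (CategoryTheory.Iso.commRingCatIsoToRingEquiv (X.presheaf.mapIso (eqToIso q).op))).le
    ⟨_, nzd_basicOpen hg r', rfl⟩

lemma exists_coprime {R : Type u} [CommRing R] {e b₁ b₂ : R} (he : e ∈ R⁰) (h₁ : b₁ ∈ R⁰) (h₂ : b₂ ∈ R⁰)
    (hsum : Ideal.span {b₁} ⊔ Ideal.span {b₂} = Ideal.span {e}) :
    ∃ c₁ c₂ : R, c₁ ∈ R⁰ ∧ c₂ ∈ R⁰ ∧ b₁ = e * c₁ ∧ b₂ = e * c₂ ∧ Ideal.span {c₁} ⊔ Ideal.span {c₂} = ⊤ := by
  obtain ⟨c₁, hc₁⟩ := Ideal.mem_span_singleton.mp (hsum.le (Ideal.mem_sup_left (Ideal.mem_span_singleton_self b₁)))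
  obtain ⟨c₂, hc₂⟩ := Ideal.mem_span_singleton.mp (hsum.le (Ideal.mem_sup_right (Ideal.mem_span_singleton_self b₂)))
  refine ⟨c₁, c₂, (mul_mem_nonZeroDivisors.mp (hc₁ ▸ h₁)).2, (mul_mem_nonZeroDivisors.mp (hc₂ ▸ h₂)).2, hc₁, hc₂, ?_⟩
  obtain ⟨u, hu, v, hv, huv⟩ := Submodule.mem_sup.mp (hsum.ge (Ideal.mem_span_singleton_self e))
  obtain ⟨u, rfl⟩ := Ideal.mem_span_singleton.mp hu
  obtain ⟨v, rfl⟩ := Ideal.mem_span_singleton.mp hv
  rw [Ideal.eq_top_iff_one]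
  have : c₁ * u + c₂ * v = 1 := by
    refine (mul_cancel_left_mem_nonZeroDivisors he).mp ?_
    calc e * (c₁ * u + c₂ * v) = b₁ * u + b₂ * v := by rw [hc₁, hc₂]; ring
      _ = e * 1 := by rw [mul_one]; exact huv
  exact this ▸ Submodule.add_mem_sup (Ideal.mem_span_singleton.mpr ⟨u, rfl⟩)
    (Ideal.mem_span_singleton.mpr ⟨v, rfl⟩)

/-- Two divisors whose intersection is a divisor. -/
theorem exists_residual {I₁ I₂ : X.IdealSheafData} (h₁ : BlowUp.IsEffCartierIdeal I₁)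
    (h₂ : BlowUp.IsEffCartierIdeal I₂) (hE : BlowUp.IsEffCartierIdeal (I₁ ⊔ I₂)) :
    ∃ I₁' I₂' : X.IdealSheafData, BlowUp.IsEffCartierIdeal I₁' ∧ BlowUp.IsEffCartierIdeal I₂' ∧
      I₁ = I₁' * (I₁ ⊔ I₂) ∧ I₂ = I₂' * (I₁ ⊔ I₂) ∧ I₁' ⊔ I₂' = ⊤ ∧
      ∀ D : X.IdealSheafData, D ≤ I₁ → D ≤ I₂ → D ≤ I₁' * I₂' * (I₁ ⊔ I₂) := by
  set E := I₁ ⊔ I₂
  have hfg := fg_of_isLocPrincipal (isLocPrincipal_of_ec hE)
  have key : ∀ x : X, ∃ (U : X.affineOpens) (e c₁ c₂ : Γ(X, U.1)), x ∈ U.1 ∧ e ∈ Γ(X, U.1)⁰ ∧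
      c₁ ∈ Γ(X, U.1)⁰ ∧ c₂ ∈ Γ(X, U.1)⁰ ∧ E.ideal U = Ideal.span {e} ∧
      I₁.ideal U = Ideal.span {e * c₁} ∧ I₂.ideal U = Ideal.span {e * c₂} ∧
      Ideal.span {c₁} ⊔ Ideal.span {c₂} = (⊤ : Ideal Γ(X, U.1)) := by
    intro x
    obtain ⟨V, hxV, e, he, hV⟩ := hE x
    obtain ⟨r₁, hx₁, a₁, ha₁, hU₁⟩ := ec_refine h₁ V hxV
    obtain ⟨r₂, hx₂, a₂, ha₂, hU₂⟩ := ec_refine h₂ (X.affineBasicOpen r₁) hx₁
    have e0 := ideal_of_le (V := X.affineBasicOpen r₂) (X.basicOpen_le r₂)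
      (ideal_of_le (V := X.affineBasicOpen r₁) (X.basicOpen_le r₁) hV)
    have e1 := ideal_of_le (V := X.affineBasicOpen r₂) (X.basicOpen_le r₂) hU₁
    have hsum := e0
    rw [show E = I₁ ⊔ I₂ from rfl, Scheme.IdealSheafData.ideal_sup, Pi.sup_apply, e1, hU₂] at hsum
    obtain ⟨c₁, c₂, h1, h2, q1, q2, hco⟩ := exists_coprime (nzd_basicOpen (nzd_basicOpen he r₁) r₂)
      (nzd_basicOpen ha₁ r₂) ha₂ hsum
    exact ⟨X.affineBasicOpen r₂, _, c₁, c₂, hx₂, nzd_basicOpen (nzd_basicOpen he r₁) r₂, h1, h2, e0,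
      q1 ▸ e1, q2 ▸ hU₂, hco⟩
  choose U e c₁ c₂ hxU he hc₁ hc₂ hEU hU₁ hU₂ hco using key
  have hcov : ⨆ x, (U x).1 = ⊤ := eq_top_iff.mpr fun x _ => Opens.mem_iSup.mpr ⟨x, hxU x⟩
  have r₁ := fun x => residual_ideal I₁ E hfg (he x) (hU₁ x) (hEU x)
  have r₂ := fun x => residual_ideal I₂ E hfg (he x) (hU₂ x) (hEU x)
  refine ⟨residual I₁ E hfg, residual I₂ E hfg, fun x => ⟨U x, hxU x, _, hc₁ x, r₁ x⟩,
    fun x => ⟨U x, hxU x, _, hc₂ x, r₂ x⟩, ?_, ?_, ?_, fun D hD₁ hD₂ => ?_⟩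
  · refine Scheme.IdealSheafData.ext_of_iSup_eq_top U hcov fun x => ?_
    rw [Scheme.IdealSheafData.ideal_mul, Pi.mul_apply, r₁, hEU, hU₁, Ideal.span_singleton_mul_span_singleton, mul_comm]
  · refine Scheme.IdealSheafData.ext_of_iSup_eq_top U hcov fun x => ?_
    rw [Scheme.IdealSheafData.ideal_mul, Pi.mul_apply, r₂, hEU, hU₂, Ideal.span_singleton_mul_span_singleton, mul_comm]
  · refine Scheme.IdealSheafData.ext_of_iSup_eq_top U hcov fun x => ?_
    rw [Scheme.IdealSheafData.ideal_sup, Pi.sup_apply, r₁, r₂, hco]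
    rfl
  · refine Scheme.IdealSheafData.le_of_iSup_eq_top U hcov fun x d hd => ?_
    rw [Scheme.IdealSheafData.ideal_mul, Scheme.IdealSheafData.ideal_mul, Pi.mul_apply, Pi.mul_apply, r₁, r₂, hEU,
      Ideal.span_singleton_mul_span_singleton, Ideal.span_singleton_mul_span_singleton, Ideal.mem_span_singleton]
    obtain ⟨u, hu⟩ := Ideal.mem_span_singleton.mp ((hU₁ x).le (hD₁ _ hd))
    obtain ⟨v, hv⟩ := Ideal.mem_span_singleton.mp ((hU₂ x).le (hD₂ _ hd))
    obtain ⟨s, hs, t, ht, hst⟩ := Submodule.mem_sup.mp ((hco x).ge (Submodule.mem_top (x := (1 : Γ(X, (U x).1)))))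
    obtain ⟨s, rfl⟩ := Ideal.mem_span_singleton.mp hs
    obtain ⟨t, rfl⟩ := Ideal.mem_span_singleton.mp ht
    refine ⟨s * v + t * u, ?_⟩
    calc d = d * (c₁ x * s + c₂ x * t) := by rw [hst, mul_one]
      _ = (e x * c₂ x * v) * (c₁ x * s) + (e x * c₁ x * u) * (c₂ x * t) := by rw [mul_add, ← hv, ← hu]
      _ = _ := by ring

end Groth.Agent.ModPairBasic
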